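import Mathlib

/-!
Spans of products of powers closed under multiplication.
-/

set_option autoImplicit false

namespace Groth.Agent.H68.QsP.Tower

variable {k R : Type*} [CommRing k] [CommRing R] [Algebra k R]

/-- The span of `z^i`, `i < N`. -/
def pows (k : Type*) {R : Type*} [CommRing k] [CommRing R] [Algebra k R] (z : R) (N : ℕ) : Submodule k R :=
  Submodule.span k (Set.range fun i : Fin N => z ^ (i : ℕ))

lemma pow_mem_pows {z : R} {N i : ℕ} (h : i < N) : z ^ i ∈ pows k z N :=
  Submodule.subset_span ⟨⟨i, h⟩, rfl⟩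

/-- `S` is multiplicatively closed and contains `1`. -/
def Closed (S : Submodule k R) : Prop := 1 ∈ S ∧ S * S ≤ S

lemma closed_mul {S : Submodule k R} (hS : Closed S) {z : R} {N : ℕ} (hN : 0 < N) (hz : z ^ N ∈ S * pows k z N) :
    Closed (S * pows k z N) ∧ S ≤ S * pows k z N ∧ z ∈ S * pows k z N := by
  have hSle : S ≤ S * pows k z N := fun x hx => by
    simpa using Submodule.mul_mem_mul hx (pow_mem_pows (k := k) (z := z) hN)
  have hall : ∀ m, z ^ m ∈ S * pows k z N := by
    intro m
    induction m with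
    | zero => simpa using hSle hS.1
    | succ m ih =>
      have hstep : Submodule.span k {z} * (S * pows k z N) ≤ S * pows k z N := by
        rw [mul_left_comm]
        refine le_trans (mul_le_mul' le_rfl (?_ : Submodule.span k {z} * pows k z N ≤ S * pows k z N)) ?_
        · rw [pows, Submodule.span_mul_span, Submodule.span_le]
          rintro _ ⟨a, ha, b, ⟨i, rfl⟩, rfl⟩
          rw [Set.mem_singleton_iff] at ha
          subst ha
          show a * a ^ (i : ℕ) ∈ S * pows k a N
          rw [← pow_succ']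
          rcases Nat.lt_or_ge ((i : ℕ) + 1) N with h | h
          · simpa using Submodule.mul_mem_mul hS.1 (pow_mem_pows (k := k) (z := a) h)
          · rw [show (i : ℕ) + 1 = N by omega]; exact hz
        · rw [← mul_assoc]
          exact mul_le_mul_left hS.2 _
      rw [pow_succ']
      exact hstep (Submodule.mul_mem_mul (Submodule.mem_span_singleton_self z) ih)
  refine ⟨⟨hSle hS.1, ?_⟩, hSle, by simpa using hall 1⟩
  rw [mul_mul_mul_comm]
  refine le_trans (mul_le_mul' hS.2 (?_ : pows k z N * pows k z N ≤ S * pows k z N)) ?_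
  · rw [pows, Submodule.span_mul_span, Submodule.span_le]
    rintro _ ⟨_, ⟨i, rfl⟩, _, ⟨j, rfl⟩, rfl⟩
    show z ^ (i : ℕ) * z ^ (j : ℕ) ∈ S * pows k z N
    rw [← pow_add]
    exact hall _
  · rw [← mul_assoc]
    exact mul_le_mul_left hS.2 _

lemma closed_span_one : Closed (Submodule.span k ({1} : Set R)) :=
  ⟨Submodule.mem_span_singleton_self 1, by rw [Submodule.span_mul_span, Set.singleton_mul_singleton, one_mul]⟩

lemma eq_top_of_closed {S : Submodule k R} (hS : Closed S) {g : Set R} (hg : g ⊆ S) (hgen : Algebra.adjoin k g = ⊤) :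
    S = ⊤ := by
  let A : Subalgebra k R := S.toSubalgebra hS.1 fun a b ha hb => hS.2 (Submodule.mul_mem_mul ha hb)
  have hA : A = ⊤ := eq_top_iff.mpr (hgen ▸ Algebra.adjoin_le hg)
  refine eq_top_iff.mpr fun x _ => ?_
  have : x ∈ A := hA ▸ Algebra.mem_top
  exact this

variable {ι : Type*} [DecidableEq ι] (B : ι → ℕ) (hB : ∀ i, 0 < B i) (fac : ι → ℕ → R)

/-- The span of the products over `J` of the factors. -/
def prodSpan (k : Type*) {R : Type*} [CommRing k] [CommRing R] [Algebra k R] {ι : Type*}
    (B : ι → ℕ) (fac : ι → ℕ → R) (J : Finset ι) : Submodule k R :=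
  Submodule.span k (Set.range fun a : ∀ i, Fin (B i) => ∏ i ∈ J, fac i (a i))

include hB in
lemma prodSpan_empty : prodSpan k B fac ∅ = Submodule.span k ({1} : Set R) := by
  have : Nonempty (∀ i, Fin (B i)) := ⟨fun i => ⟨0, hB i⟩⟩
  simp [prodSpan, Set.range_const]

lemma prodSpan_insert (J : Finset ι) {i : ι} (hi : i ∉ J) :
    prodSpan k B fac (insert i J) = prodSpan k B fac J * Submodule.span k (Set.range fun c : Fin (B i) => fac i c) := by
  classical
  rw [prodSpan, prodSpan, Submodule.span_mul_span]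
  congr 1
  ext x
  constructor
  · rintro ⟨a, rfl⟩
    refine ⟨_, ⟨a, rfl⟩, _, ⟨a i, rfl⟩, ?_⟩
    simp only [Finset.prod_insert hi]
    exact mul_comm _ _
  · rintro ⟨_, ⟨a, rfl⟩, _, ⟨c, rfl⟩, rfl⟩
    refine ⟨Function.update a i c, ?_⟩
    simp only [Finset.prod_insert hi, Function.update_self]
    rw [mul_comm]
    congr 1
    exact Finset.prod_congr rfl fun j hj => by rw [Function.update_of_ne (fun h : j = i => hi (h ▸ hj))]

include hB in
/-- Induction step for adjoining power factors. -/
lemma closed_prodSpan_union (J₀ K : Finset ι) (hd : Disjoint J₀ K) (h0 : Closed (prodSpan k B fac J₀))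
    (z : ι → R) (hfac : ∀ i ∈ K, ∀ c, fac i c = z i ^ c) (hrel : ∀ i ∈ K, z i ^ B i ∈ prodSpan k B fac J₀) :
    Closed (prodSpan k B fac (J₀ ∪ K)) ∧ prodSpan k B fac J₀ ≤ prodSpan k B fac (J₀ ∪ K) ∧
      ∀ i ∈ K, z i ∈ prodSpan k B fac (J₀ ∪ K) := by
  induction K using Finset.induction_on with
  | empty => rw [Finset.union_empty]; exact ⟨h0, le_rfl, by simp⟩
  | insert i K hiK ih =>
    rw [Finset.disjoint_insert_right] at hd
    obtain ⟨hcl, hle, hz⟩ := ih hd.2 (fun j hj => hfac j (Finset.mem_insert_of_mem hj))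
      (fun j hj => hrel j (Finset.mem_insert_of_mem hj))
    have hi : i ∉ J₀ ∪ K := by simp [hd.1, hiK]
    have e : Submodule.span k (Set.range fun c : Fin (B i) => fac i c) = pows k (z i) (B i) := by
      rw [pows]
      congr 2
      funext c
      exact hfac i (Finset.mem_insert_self i K) c
    have hins : prodSpan k B fac (J₀ ∪ insert i K) = prodSpan k B fac (J₀ ∪ K) * pows k (z i) (B i) := by
      rw [Finset.union_insert, prodSpan_insert B fac _ hi, e]
    have hle1 : prodSpan k B fac (J₀ ∪ K) ≤ prodSpan k B fac (J₀ ∪ K) * pows k (z i) (B i) := fun x hx => by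
      simpa using Submodule.mul_mem_mul hx (pow_mem_pows (k := k) (z := z i) (hB i))
    obtain ⟨hcl', hle', hzi⟩ := closed_mul hcl (hB i) (hle1 (hle (hrel i (Finset.mem_insert_self i K))))
    rw [hins]
    refine ⟨hcl', hle.trans hle', fun j hj => ?_⟩
    rcases Finset.mem_insert.mp hj with rfl | hj
    · exact hzi
    · exact hle' (hz j hj)

end Groth.Agent.H68.QsP.Tower
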