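import Groth.Prelude.Def_W4c4chowquasisplitPn
import Groth.Agent.H68.QsP.Tower
import Mathlib

/-!
Elementary facts about the truncated algebra `P n` and the invariant generators.
-/

set_option autoImplicit false

open MvPolynomial QsChow

namespace Groth.Agent.H68.QsP

variable {n : ℕ}

lemma klog_bounds {j : ℕ} (hn : 2 ≤ n) (h2 : 2 ≤ j) (hj : j ≤ numVars n) :
    n ≤ (2 * j - 3) * 2 ^ klog n j ∧ (2 * j - 3) * 2 ^ klog n j ≤ 2 * n - 1 ∧ 1 ≤ klog n j := by
  unfold numVars at hj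
  set d := 2 * j - 3 with hd
  have hd1 : 1 ≤ d := by omega
  have hd2 : d * 2 ≤ 2 * n - 1 := by omega
  have hq : 2 ≤ (2 * n - 1) / d := (Nat.le_div_iff_mul_le hd1).mpr (by rw [mul_comm]; exact hd2)
  have h1 := Nat.pow_log_le_self 2 (x := (2 * n - 1) / d) (by omega)
  have h3 := Nat.lt_pow_succ_log_self (b := 2) (by norm_num) ((2 * n - 1) / d)
  have hk : klog n j = Nat.log 2 ((2 * n - 1) / d) := rfl
  rw [← hk] at h1 h3
  have h4 : d * 2 ^ klog n j ≤ 2 * n - 1 := by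
    calc d * 2 ^ klog n j ≤ d * ((2 * n - 1) / d) := Nat.mul_le_mul_left d h1
      _ ≤ 2 * n - 1 := Nat.mul_div_le _ _
  have h5 : 2 * n - 1 < d * (2 ^ klog n j * 2) := by
    rw [← pow_succ]
    calc 2 * n - 1 < d * ((2 * n - 1) / d + 1) := Nat.lt_mul_div_succ _ hd1
      _ ≤ d * 2 ^ (klog n j + 1) := Nat.mul_le_mul_left d h3
  refine ⟨?_, h4, ?_⟩
  · rw [← mul_assoc] at h5; omega
  · rw [hk]; exact Nat.le_log_of_pow_le (by norm_num) (by simpa using hq)

lemma klog_two_bounds (hn : 2 ≤ n) : n ≤ 2 ^ klog n 2 ∧ 2 ^ klog n 2 < 2 * n ∧ 1 ≤ klog n 2 := by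
  have h := klog_bounds hn (le_refl 2) (by unfold numVars; omega)
  simp only [show 2 * 2 - 3 = 1 from rfl, one_mul] at h
  exact ⟨h.1, by omega, h.2.2⟩

lemma klog_le_two {j : ℕ} (h2 : 2 ≤ j) : klog n j ≤ klog n 2 :=
  Nat.log_mono_right (Nat.div_le_div_left (by omega) (by norm_num))

/-- The position of `ε_1`. -/
def i0 (n : ℕ) : Fin (numVars n) := ⟨0, Nat.succ_pos _⟩

/-- The position of `ε_2`. -/
def i1 (n : ℕ) (hn : 2 ≤ n) : Fin (numVars n) := ⟨1, by unfold numVars; omega⟩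

lemma bound_i0 : bound n (i0 n) = n := rfl
lemma bound_i1 (hn : 2 ≤ n) : bound n (i1 n hn) = 2 ^ klog n 2 := rfl
lemma bound_of_ne {i : Fin (numVars n)} (h : i ≠ i0 n) : bound n i = 2 ^ klog n (i.val + 1) :=
  if_neg fun h0 => h (Fin.ext h0)

lemma bound_pos (hn : 2 ≤ n) (i : Fin (numVars n)) : 0 < bound n i := by
  unfold QsChow.bound
  split_ifs
  · omega
  · positivity

lemma eps_eq (i : Fin (numVars n)) : eps n (i.val + 1) = Ideal.Quotient.mk (truncIdeal n) (X i) := by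
  unfold eps
  rw [dif_pos ⟨Nat.succ_pos _, i.isLt⟩]
  congr

lemma eps_pow_bound (i : Fin (numVars n)) : eps n (i.val + 1) ^ bound n i = 0 := by
  rw [eps_eq, ← map_pow, Ideal.Quotient.eq_zero_iff_mem]
  exact Ideal.subset_span ⟨i, rfl⟩

lemma two_eq_zero {R : Type*} [CommRing R] [Algebra (ZMod 2) R] : (2 : R) = 0 := by
  rw [← map_ofNat (algebraMap (ZMod 2) R) 2, show (2 : ZMod 2) = 0 from rfl, map_zero]

lemma add_self {R : Type*} [CommRing R] [Algebra (ZMod 2) R] (x : R) : x + x = 0 := by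
  rw [← two_mul, two_eq_zero, zero_mul]

lemma eq_of_add_eq_zero {R : Type*} [CommRing R] [Algebra (ZMod 2) R] {x y : R} (h : x + y = 0) : x = y := by
  linear_combination h - add_self y

lemma add_pow_two_pow {R : Type*} [CommRing R] [Algebra (ZMod 2) R] (x y : R) (k : ℕ) :
    (x + y) ^ 2 ^ k = x ^ 2 ^ k + y ^ 2 ^ k := by
  induction k with
  | zero => simp
  | succ k ih =>
    rw [pow_succ, pow_mul, ih, add_sq, two_eq_zero, zero_mul, zero_mul, add_zero, ← pow_mul, ← pow_mul, ← pow_succ]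

/-- The basic identity `t^(2^k) = Σ e^(2^k - 2^(r+1)) u^(2^r) + e^(2^k - 1) t` for `u = t² + e t`. -/
lemma pow_two_pow_eq {R : Type*} [CommRing R] [Algebra (ZMod 2) R] (e t : R) (k : ℕ) :
    t ^ 2 ^ k = ∑ r ∈ Finset.range k, e ^ (2 ^ k - 2 ^ (r + 1)) * (t ^ 2 + e * t) ^ 2 ^ r + e ^ (2 ^ k - 1) * t := by
  induction k with
  | zero => simp
  | succ k ih =>
    have hsum : ∀ (m : ℕ) (f : ℕ → R), (∑ r ∈ Finset.range m, f r) ^ 2 = ∑ r ∈ Finset.range m, f r ^ 2 := by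
      intro m f
      induction m with
      | zero => simp
      | succ m ihm => rw [Finset.sum_range_succ, Finset.sum_range_succ, add_sq, two_eq_zero, zero_mul, zero_mul, add_zero, ihm]
    have h1 : t ^ 2 ^ (k + 1) = (t ^ 2 ^ k) ^ 2 := by rw [← pow_mul, ← pow_succ]
    have hk : 1 ≤ 2 ^ k := Nat.one_le_two_pow
    have e1 : 2 ^ (k + 1) = 2 ^ k + 2 ^ k := by rw [pow_succ, mul_two]
    rw [h1, ih, add_sq, two_eq_zero, zero_mul, zero_mul, add_zero, hsum, Finset.sum_range_succ']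
    have hterm : ∀ r ∈ Finset.range k, (e ^ (2 ^ k - 2 ^ (r + 1)) * (t ^ 2 + e * t) ^ 2 ^ r) ^ 2 =
        e ^ (2 ^ (k + 1) - 2 ^ (r + 1 + 1)) * (t ^ 2 + e * t) ^ 2 ^ (r + 1) := by
      intro r _
      rw [mul_pow, ← pow_mul, ← pow_mul, ← pow_succ]
      congr 2
      rw [e1, pow_succ 2 (r + 1)]
      omega
    rw [Finset.sum_congr rfl hterm, add_assoc]
    congr 1
    rw [pow_zero, pow_one, mul_pow, ← pow_mul, show 2 ^ (k + 1) - 2 = 2 * 2 ^ k - 2 by rw [e1]; omega,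
      show (2 ^ k - 1) * 2 = 2 * 2 ^ k - 2 by omega, show 2 ^ (k + 1) - 1 = 2 * 2 ^ k - 2 + 1 by omega, pow_succ]
    linear_combination (-(e ^ (2 * 2 ^ k - 2) * (e * t))) * (two_eq_zero : (2 : R) = 0)

/-- `e = ε_1`. -/
noncomputable abbrev ee (n : ℕ) : P n := eps n 1

/-- `t = ε_2`. -/
noncomputable abbrev tt (n : ℕ) : P n := eps n 2

/-- `u = ε_2² + ε_1 ε_2`. -/
noncomputable abbrev uu (n : ℕ) : P n := tt n ^ 2 + ee n * tt n

/-- The invariant generators `η_j`. -/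
noncomputable def eta (n : ℕ) (i : Fin (numVars n)) : P n :=
  eps n (i.val + 1) + ee n ^ (2 * (i.val + 1) - 4) * tt n

lemma ee_pow_eq_zero {m : ℕ} (h : n ≤ m) : ee n ^ m = 0 :=
  pow_eq_zero_of_le h (eps_pow_bound (i0 n))

lemma tt_pow_eq_zero (hn : 2 ≤ n) : tt n ^ 2 ^ klog n 2 = 0 := eps_pow_bound (i1 n hn)

lemma eta_pow {i : Fin (numVars n)} (h0 : i ≠ i0 n) :
    eta n i ^ bound n i = ee n ^ ((2 * (i.val + 1) - 4) * 2 ^ klog n (i.val + 1)) * tt n ^ 2 ^ klog n (i.val + 1) := by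
  have h := eps_pow_bound i
  rw [bound_of_ne h0] at h ⊢
  rw [eta, add_pow_two_pow, h, zero_add, mul_pow, ← pow_mul]

lemma phi_evar {j : ℕ} (h : 0 < j ∧ j ≤ numVars n) :
    phi n (evar n j) = genImage n (some ⟨j - 1, by omega⟩) := by
  unfold evar
  rw [dif_pos h]
  exact aeval_X _ _

lemma phi_evar_one : phi n (evar n 1) = ee n := by
  rw [phi_evar ⟨one_pos, Nat.succ_pos _⟩]
  simp [genImage]

lemma phi_evar_two (hn : 2 ≤ n) : phi n (evar n 2) = uu n := by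
  rw [phi_evar ⟨two_pos, by unfold numVars; omega⟩]
  simp [genImage]

lemma phi_evar_ge {i : Fin (numVars n)} (hn : 2 ≤ n) (h0 : i ≠ i0 n) (h1 : i ≠ i1 n hn) :
    phi n (evar n (i.val + 1)) = eta n i := by
  rw [phi_evar ⟨Nat.succ_pos _, i.isLt⟩]
  have hi0 : ¬ (i.val = 0) := fun h => h0 (Fin.ext h)
  have hi1 : ¬ (i.val = 1) := fun h => h1 (Fin.ext h)
  simp only [genImage, Nat.succ_sub_one]
  rw [if_neg hi0, if_neg hi1]
  rfl

lemma phi_xvar : phi n (xvar n) = ee n ^ (n - 1) * tt n := aeval_X _ _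

lemma phi_sPoly (hn : 2 ≤ n) (j : ℕ) :
    phi n (sPoly n j) = tt n ^ 2 ^ klog n j + ee n ^ (2 ^ klog n j - 1) * tt n := by
  rw [pow_two_pow_eq (ee n) (tt n) (klog n j)]
  simp only [sPoly, map_sum, map_mul, map_pow, phi_evar_one, phi_evar_two hn]
  rw [add_assoc, add_self, add_zero]

lemma presIdeal_le_ker (hn : 2 ≤ n) : presIdeal n ≤ RingHom.ker (phi n) := by
  rw [presIdeal, Ideal.span_le]
  rintro q ((rfl | rfl | rfl) | ⟨i, rfl⟩) <;> rw [SetLike.mem_coe, RingHom.mem_ker]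
  · rw [map_pow, phi_evar_one]; exact ee_pow_eq_zero le_rfl
  · rw [map_mul, phi_evar_one, phi_xvar, ← mul_assoc, ← pow_succ', show n - 1 + 1 = n by omega,
      ee_pow_eq_zero le_rfl, zero_mul]
  · rw [map_pow, phi_xvar, mul_pow, ← pow_mul, ee_pow_eq_zero (by omega), zero_mul]
  · show phi n (hrel n (i.val + 1)) = 0
    unfold hrel
    split_ifs with h2 h3
    · obtain ⟨hb1, hb2, -⟩ := klog_two_bounds hn
      rw [map_add, map_mul, map_pow, phi_evar_one, phi_xvar, phi_sPoly hn, tt_pow_eq_zero hn, zero_add, ← mul_assoc, ← pow_add,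
        show 2 ^ klog n 2 - n + (n - 1) = 2 ^ klog n 2 - 1 by omega, add_self]
    · obtain ⟨hb1, hb2, hb3⟩ := klog_bounds hn (by omega : 2 ≤ i.val + 1) i.isLt
      have h0 : i ≠ i0 n := fun h => by subst h; exact absurd h3.1 (by simp [i0])
      have h1 : i ≠ i1 n hn := fun h => by subst h; exact absurd h3.1 (by simp [i1])
      have he := eta_pow h0
      rw [bound_of_ne h0] at he
      simp only [map_add, map_mul, map_pow, phi_evar_one, phi_xvar, phi_sPoly hn, phi_evar_ge hn h0 h1, he]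
      set k := klog n (i.val + 1)
      have hk : 1 ≤ 2 ^ k := Nat.one_le_two_pow
      have hexp : (2 * (i.val + 1) - 3) * 2 ^ k = (2 * (i.val + 1) - 4) * 2 ^ k + 2 ^ k := by
        rw [show 2 * (i.val + 1) - 3 = 2 * (i.val + 1) - 4 + 1 by omega, add_mul, one_mul]
      rw [← mul_assoc (ee n ^ ((2 * (i.val + 1) - 3) * 2 ^ k - n)), ← pow_add,
        show (2 * (i.val + 1) - 3) * 2 ^ k - n + (n - 1) = (2 * (i.val + 1) - 4) * 2 ^ k + (2 ^ k - 1) by omega, pow_add]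
      linear_combination (ee n ^ ((2 * (i.val + 1) - 4) * 2 ^ k) * tt n ^ 2 ^ k +
        ee n ^ ((2 * (i.val + 1) - 4) * 2 ^ k) * ee n ^ (2 ^ k - 1) * tt n) * (two_eq_zero : (2 : P n) = 0)
    · exact map_zero _

end Groth.Agent.H68.QsP
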