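import Groth.Agent.H68.QsP.Basic

/-!
The adapted basis `e^l t^b u^i η^a` of `P n`.
-/

set_option autoImplicit false

open MvPolynomial QsChow

namespace Groth.Agent.H68.QsP

open Tower

variable {n : ℕ}

/-- The index type. -/
abbrev Idx (n : ℕ) : Type := ∀ i : Fin (numVars n), Fin (bound n i)

/-- The factors of the adapted basis. -/
noncomputable def fac (n : ℕ) (i : Fin (numVars n)) (c : ℕ) : P n :=
  if i.val = 0 then ee n ^ c else if i.val = 1 then tt n ^ (c % 2) * uu n ^ (c / 2) else eta n i ^ c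

/-- The adapted family. -/
noncomputable def v (n : ℕ) (a : Idx n) : P n := ∏ i, fac n i (a i)

lemma fac_i0 (c : ℕ) : fac n (i0 n) c = ee n ^ c := rfl
lemma fac_i1 (hn : 2 ≤ n) (c : ℕ) : fac n (i1 n hn) c = tt n ^ (c % 2) * uu n ^ (c / 2) := rfl
lemma fac_other (hn : 2 ≤ n) {i : Fin (numVars n)} (h0 : i ≠ i0 n) (h1 : i ≠ i1 n hn) (c : ℕ) :
    fac n i c = eta n i ^ c := by
  unfold fac
  rw [if_neg (fun h : i.val = 0 => h0 (Fin.ext h)), if_neg (fun h : i.val = 1 => h1 (Fin.ext h))]

lemma prodSpan_pair {R : Type*} [CommRing R] [Algebra (ZMod 2) R] (hn : 2 ≤ n) (f : Fin (numVars n) → ℕ → R) :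
    prodSpan (ZMod 2) (bound n) f {i0 n, i1 n hn} =
      Submodule.span (ZMod 2) (Set.range fun c : Fin (bound n (i0 n)) => f (i0 n) c) *
        Submodule.span (ZMod 2) (Set.range fun c : Fin (bound n (i1 n hn)) => f (i1 n hn) c) := by
  have h : i0 n ≠ i1 n hn := fun h => absurd (congrArg Fin.val h) (by simp [i0, i1])
  rw [show ({i0 n, i1 n hn} : Finset (Fin (numVars n))) = insert (i1 n hn) (insert (i0 n) ∅) by
      simp [Finset.pair_comm],
    prodSpan_insert _ _ _ (by simpa using h.symm), prodSpan_insert _ _ _ (Finset.notMem_empty _),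
    prodSpan_empty _ (bound_pos hn), ← Submodule.one_eq_span, one_mul]

lemma pows_closed {R : Type*} [CommRing R] [Algebra (ZMod 2) R] {z : R} {N : ℕ} (hN : 0 < N) (hz : z ^ N = 0) :
    Closed (pows (ZMod 2) z N) ∧ (1 < N → z ∈ pows (ZMod 2) z N) := by
  have h := closed_mul (k := ZMod 2) (closed_span_one (k := ZMod 2) (R := R)) (z := z) hN (by rw [hz]; exact zero_mem _)
  rw [← Submodule.one_eq_span, one_mul] at h
  exact ⟨h.1, fun h1 => by simpa using pow_mem_pows (k := ZMod 2) (z := z) h1⟩

lemma base_closed (hn : 2 ≤ n) :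
    Closed (prodSpan (ZMod 2) (bound n) (fac n) {i0 n, i1 n hn}) ∧
      ee n ∈ prodSpan (ZMod 2) (bound n) (fac n) {i0 n, i1 n hn} ∧
      tt n ∈ prodSpan (ZMod 2) (bound n) (fac n) {i0 n, i1 n hn} := by
  obtain ⟨hb1, hb2, hb3⟩ := klog_two_bounds hn
  set k := klog n 2 with hk
  set S := pows (ZMod 2) (ee n) n with hS
  obtain ⟨hSc, hSe⟩ := pows_closed (z := ee n) (N := n) (by omega) (ee_pow_eq_zero le_rfl)
  set W := Submodule.span (ZMod 2) (Set.range fun c : Fin (2 ^ k) => fac n (i1 n hn) c) with hW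
  have e0 : prodSpan (ZMod 2) (bound n) (fac n) {i0 n, i1 n hn} = S * W := prodSpan_pair hn (fac n)
  obtain ⟨hTc, hST, htT⟩ := closed_mul (k := ZMod 2) hSc (z := tt n) (N := 2 ^ k) (by positivity)
    (by rw [tt_pow_eq_zero hn]; exact zero_mem _)
  set T := S * pows (ZMod 2) (tt n) (2 ^ k) with hT
  have hWT : W ≤ T := by
    rw [hW, Submodule.span_le]
    rintro _ ⟨c, rfl⟩
    let A : Subalgebra (ZMod 2) (P n) := T.toSubalgebra hTc.1 fun a b ha hb => hTc.2 (Submodule.mul_mem_mul ha hb)
    have ht : tt n ∈ A := htT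
    have he : ee n ∈ A := hST (hSe hn)
    exact A.mul_mem (pow_mem ht _) (pow_mem (A.add_mem (pow_mem ht _) (A.mul_mem he ht)) _)
  have hmem : ∀ c : ℕ, c < 2 ^ k → tt n ^ (c % 2) * uu n ^ (c / 2) ∈ S * W := fun c hc => by
    have h : tt n ^ (c % 2) * uu n ^ (c / 2) ∈ W := Submodule.subset_span ⟨⟨c, hc⟩, rfl⟩
    have := Submodule.mul_mem_mul (show (1 : P n) ∈ S from hSc.1) h
    rwa [one_mul] at this
  have hScale : ∀ m x, x ∈ S * W → ee n ^ m * x ∈ S * W := by
    intro m x hx
    have hm : ee n ^ m ∈ S := by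
      rcases Nat.lt_or_ge m n with h | h
      · exact pow_mem_pows h
      · rw [ee_pow_eq_zero h]; exact zero_mem _
    have := Submodule.mul_mem_mul hm hx
    rw [← mul_assoc] at this
    exact mul_le_mul' hSc.2 le_rfl this
  have e1 : 2 ^ k = 2 * 2 ^ (k - 1) := by rw [← pow_succ']; congr 1; omega
  have htop : uu n ^ 2 ^ (k - 1) ∈ S * W := by
    have h := pow_two_pow_eq (ee n) (tt n) k
    rw [tt_pow_eq_zero hn, show k = k - 1 + 1 by omega, Finset.sum_range_succ, show k - 1 + 1 = k by omega,
      Nat.sub_self, pow_zero, one_mul] at h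
    have h' : uu n ^ 2 ^ (k - 1) = ∑ r ∈ Finset.range (k - 1), ee n ^ (2 ^ k - 2 ^ (r + 1)) * uu n ^ 2 ^ r
        + ee n ^ (2 ^ k - 1) * tt n := by
      linear_combination (-h) - (∑ r ∈ Finset.range (k - 1), ee n ^ (2 ^ k - 2 ^ (r + 1)) * uu n ^ 2 ^ r
        + ee n ^ (2 ^ k - 1) * tt n) * (two_eq_zero : (2 : P n) = 0)
    rw [h']
    refine add_mem (sum_mem fun r hr => hScale _ _ ?_) (hScale _ _ ?_)
    · have hr' : 2 ^ r < 2 ^ (k - 1) := Nat.pow_lt_pow_right (by norm_num) (Finset.mem_range.mp hr)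
      have := hmem (2 * 2 ^ r) (by omega)
      simpa using this
    · have := hmem 1 (by omega)
      simpa using this
  have hstep : ∀ x ∈ S * W, tt n * x ∈ S * W := by
    intro x hx
    refine Submodule.mul_induction_on hx (fun s hs w hw => ?_) (fun a b ha hb => by rw [mul_add]; exact add_mem ha hb)
    · skip
      rw [mul_left_comm]
      have key : tt n * w ∈ S * W := by
        induction hw using Submodule.span_induction with
        | zero => simp
        | add a b _ _ ha hb => rw [mul_add]; exact add_mem ha hb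
        | smul r a _ ha => rw [mul_smul_comm]; exact Submodule.smul_mem _ r ha
        | mem w hw =>
          obtain ⟨c, rfl⟩ := hw
          have hc := c.isLt
          show tt n * (tt n ^ ((c : ℕ) % 2) * uu n ^ ((c : ℕ) / 2)) ∈ S * W
          rcases Nat.mod_two_eq_zero_or_one c with h | h <;> rw [h]
          · have := hmem ((c : ℕ) + 1) (by omega)
            rw [show ((c : ℕ) + 1) % 2 = 1 by omega, show ((c : ℕ) + 1) / 2 = (c : ℕ) / 2 by omega] at this
            simpa using this
          · have hsq : tt n * (tt n ^ 1 * uu n ^ ((c : ℕ) / 2)) = uu n ^ ((c : ℕ) / 2 + 1) + ee n ^ 1 * (tt n ^ ((c : ℕ) % 2) * uu n ^ ((c : ℕ) / 2)) := by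
              rw [h, pow_succ]
              linear_combination (-(ee n * tt n * uu n ^ ((c : ℕ) / 2))) * (two_eq_zero : (2 : P n) = 0)
            rw [hsq]
            refine add_mem ?_ (hScale 1 _ (hmem c hc))
            rcases Nat.lt_or_ge ((c : ℕ) + 1) (2 ^ k) with h' | h'
            · have := hmem ((c : ℕ) + 1) h'
              rw [show ((c : ℕ) + 1) % 2 = 0 by omega, show ((c : ℕ) + 1) / 2 = (c : ℕ) / 2 + 1 by omega] at this
              simpa using this
            · rw [show (c : ℕ) / 2 + 1 = 2 ^ (k - 1) by omega]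
              exact htop
      have := Submodule.mul_mem_mul hs key
      exact mul_le_mul' hSc.2 le_rfl ((mul_assoc S S W).ge this)
  have hpow : ∀ c : ℕ, tt n ^ c ∈ S * W := by
    intro c
    induction c with
    | zero => simpa using hmem 0 (by omega)
    | succ c ih => rw [pow_succ']; exact hstep _ ih
  have hEq : S * W = T := by
    refine le_antisymm ?_ ?_
    · refine (mul_le_mul' le_rfl hWT).trans ?_
      rw [hT]
      exact (mul_assoc S S _).ge.trans (mul_le_mul' hSc.2 le_rfl)
    · refine (mul_le_mul' le_rfl (?_ : pows (ZMod 2) (tt n) (2 ^ k) ≤ S * W)).trans ?_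
      · exact Submodule.span_le.mpr (by rintro _ ⟨i, rfl⟩; exact hpow _)
      · exact (mul_assoc S S W).ge.trans (mul_le_mul' hSc.2 le_rfl)
  rw [e0, hEq]
  exact ⟨hTc, hST (hSe hn), htT⟩

lemma mem_subalgebra_of_eps {A : Subalgebra (ZMod 2) (P n)} (h : ∀ i : Fin (numVars n), eps n (i.val + 1) ∈ A) (x : P n) :
    x ∈ A := by
  obtain ⟨q, rfl⟩ := Ideal.Quotient.mk_surjective x
  induction q using MvPolynomial.induction_on with
  | C c =>
    rw [← MvPolynomial.algebraMap_eq]
    exact A.algebraMap_mem c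
  | add p q hp hq => rw [map_add]; exact A.add_mem hp hq
  | mul_X p i hp => rw [map_mul, ← eps_eq]; exact A.mul_mem hp (h i)

theorem span_v (hn : 2 ≤ n) : Submodule.span (ZMod 2) (Set.range (v n)) = ⊤ := by
  classical
  obtain ⟨h0, he, ht⟩ := base_closed hn
  set J : Finset (Fin (numVars n)) := {i0 n, i1 n hn}
  have hd : Disjoint J (Finset.univ \ J) := Finset.disjoint_sdiff
  obtain ⟨hc, hle, hz⟩ := closed_prodSpan_union (k := ZMod 2) (bound n) (bound_pos hn) (fac n) J (Finset.univ \ J) hd h0 (eta n)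
    (fun i hi c => fac_other hn (fun h => by simp [J, h] at hi) (fun h => by simp [J, h] at hi) c)
    (fun i hi => by
      rw [eta_pow (fun h => by simp [J, h] at hi)]
      let A : Subalgebra (ZMod 2) (P n) := (prodSpan (ZMod 2) (bound n) (fac n) J).toSubalgebra h0.1
        fun a b ha hb => h0.2 (Submodule.mul_mem_mul ha hb)
      exact A.mul_mem (pow_mem (show ee n ∈ A from he) _) (pow_mem (show tt n ∈ A from ht) _))
  rw [Finset.union_sdiff_of_subset (Finset.subset_univ _)] at hc hle hz
  let A : Subalgebra (ZMod 2) (P n) := (prodSpan (ZMod 2) (bound n) (fac n) Finset.univ).toSubalgebra hc.1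
        fun a b ha hb => hc.2 (Submodule.mul_mem_mul ha hb)
  refine eq_top_iff.mpr fun x _ => ?_
  refine mem_subalgebra_of_eps (A := A) (fun i => ?_) x
  by_cases h0 : i = i0 n
  · subst h0; exact hle he
  by_cases h1 : i = i1 n hn
  · subst h1; exact hle ht
  have hi : i ∈ Finset.univ \ J := by simp [J, h0, h1]
  have : eps n (i.val + 1) = eta n i - ee n ^ (2 * (i.val + 1) - 4) * tt n := by rw [eta, add_sub_cancel_right]
  rw [this]
  exact A.sub_mem (hz i hi) (A.mul_mem (pow_mem (show ee n ∈ A from hle he) _) (hle ht))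

/-- Coefficient extraction at the bounded exponents. -/
noncomputable def coords (n : ℕ) : FreeP n →ₗ[ZMod 2] (Idx n → ZMod 2) where
  toFun q a := coeff (Finsupp.equivFunOnFinite.symm fun i => (a i : ℕ)) q
  map_add' p q := by funext a; simp
  map_smul' c q := by funext a; simp [coeff_smul]

lemma coeff_trunc {q : FreeP n} (hq : q ∈ truncIdeal n) :
    ∀ d : Fin (numVars n) →₀ ℕ, (∀ i, d i < bound n i) → coeff d q = 0 := by
  classical
  induction hq using Submodule.span_induction with
  | mem x hx =>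
    obtain ⟨i, rfl⟩ := hx
    intro d hd
    show coeff d ((X i : FreeP n) ^ bound n i) = 0
    rw [X_pow_eq_monomial, coeff_monomial, if_neg]
    intro h
    have := hd i
    rw [← h, Finsupp.single_eq_same] at this
    exact lt_irrefl _ this
  | zero => intros; exact coeff_zero _
  | add x y _ _ hx hy => intro d hd; rw [coeff_add, hx d hd, hy d hd, add_zero]
  | smul c x _ hx =>
    intro d hd
    rw [smul_eq_mul, coeff_mul]
    refine Finset.sum_eq_zero fun de hde => ?_
    rw [Finset.HasAntidiagonal.mem_antidiagonal] at hde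
    rw [hx de.2 (fun i => lt_of_le_of_lt (by rw [← hde]; simp) (hd i)), mul_zero]

theorem card_le_finrank [Module.Finite (ZMod 2) (P n)] :
    Fintype.card (Idx n) ≤ Module.finrank (ZMod 2) (P n) := by
  classical
  let T : Submodule (ZMod 2) (FreeP n) := (truncIdeal n).restrictScalars (ZMod 2)
  have hT : T ≤ LinearMap.ker (coords n) := fun q hq => by
    rw [LinearMap.mem_ker]
    funext a
    exact coeff_trunc hq _ fun i => by simp
  let L : P n →ₗ[ZMod 2] (Idx n → ZMod 2) :=
    (T.liftQ (coords n) hT) ∘ₗ (Submodule.Quotient.restrictScalarsEquiv (ZMod 2) (truncIdeal n)).symm.toLinearMap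
  have hsurj : Function.Surjective L := by
    intro f
    refine ⟨Ideal.Quotient.mk _ (∑ a : Idx n, monomial (Finsupp.equivFunOnFinite.symm fun i => (a i : ℕ)) (f a)), ?_⟩
    show coords n (∑ a : Idx n, monomial (Finsupp.equivFunOnFinite.symm fun i => (a i : ℕ)) (f a)) = f
    funext b
    show coeff _ (∑ a : Idx n, monomial _ (f a)) = f b
    rw [coeff_sum, Finset.sum_eq_single b]
    · rw [coeff_monomial, if_pos rfl]
    · intro a _ hab
      rw [coeff_monomial, if_neg]
      intro h
      exact hab (funext fun i => Fin.ext (congrArg (fun d : Fin (numVars n) →₀ ℕ => d i) h))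
    · simp
  have := LinearMap.finrank_le_finrank_of_surjective hsurj
  rwa [Module.finrank_pi] at this

theorem linearIndependent_v (hn : 2 ≤ n) : LinearIndependent (ZMod 2) (v n) := by
  classical
  have hfin : Module.Finite (ZMod 2) (P n) := Module.finite_def.mpr (span_v hn ▸ Submodule.fg_span (Set.finite_range _))
  rw [linearIndependent_iff_card_le_finrank_span, Set.finrank, span_v hn, finrank_top]
  exact card_le_finrank

/-- The adapted basis. -/
noncomputable def basis (hn : 2 ≤ n) : Module.Basis (Idx n) (ZMod 2) (P n) :=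
  Module.Basis.mk (linearIndependent_v hn) (span_v hn).ge

@[simp] lemma basis_apply (hn : 2 ≤ n) (a : Idx n) : basis hn a = v n a := Module.Basis.mk_apply _ _ a

end Groth.Agent.H68.QsP
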