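import Groth.Agent.H68.QsP.Basis

/-!
The involution in the adapted basis.
-/

set_option autoImplicit false

open MvPolynomial QsChow

namespace Groth.Agent.H68.QsP

variable {n : ℕ}

/-- The parity of the exponent at position 1. -/
def par (a : Idx n) : ℕ := if h : 1 < numVars n then (a ⟨1, h⟩).val % 2 else 0

lemma par_eq (hn : 2 ≤ n) (a : Idx n) : par a = (a (i1 n hn)).val % 2 :=
  dif_pos _

lemma bound_i1_even (hn : 2 ≤ n) : bound n (i1 n hn) % 2 = 0 := by
  obtain ⟨-, -, hb3⟩ := klog_two_bounds hn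
  rw [bound_i1]
  obtain ⟨m, hm⟩ : ∃ m, klog n 2 = m + 1 := ⟨klog n 2 - 1, by omega⟩
  rw [hm, pow_succ, Nat.mul_mod_left]

/-- Change the exponent at position `i`. -/
def setAt (a : Idx n) (i : Fin (numVars n)) (c : ℕ) (hc : c < bound n i) : Idx n := Function.update a i ⟨c, hc⟩

lemma setAt_self (a : Idx n) (i : Fin (numVars n)) (c : ℕ) (hc : c < bound n i) : ((setAt a i c hc) i).val = c := by
  simp [setAt]

lemma setAt_ne (a : Idx n) {i j : Fin (numVars n)} (c : ℕ) (hc : c < bound n i) (h : j ≠ i) : setAt a i c hc j = a j := by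
  simp [setAt, h]

lemma i1_ne_i0 (hn : 2 ≤ n) : i1 n hn ≠ i0 n := fun h => absurd (congrArg Fin.val h) (by simp [i0, i1])

lemma v_split (a : Idx n) (i : Fin (numVars n)) :
    v n a = fac n i (a i) * ∏ j ∈ Finset.univ.erase i, fac n j (a j) :=
  (Finset.mul_prod_erase _ _ (Finset.mem_univ i)).symm

lemma v_setAt (a : Idx n) (i : Fin (numVars n)) (c : ℕ) (hc : c < bound n i) :
    v n (setAt a i c hc) = fac n i c * ∏ j ∈ Finset.univ.erase i, fac n j (a j) := by
  rw [v_split _ i, setAt_self]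
  congr 1
  exact Finset.prod_congr rfl fun j hj => by rw [setAt_ne a c hc (Finset.ne_of_mem_erase hj)]

lemma ee_pow_mul_v (a : Idx n) (m : ℕ) :
    ee n ^ m * v n a = if h : (a (i0 n)).val + m < n then v n (setAt a (i0 n) ((a (i0 n)).val + m) h) else 0 := by
  have e : ee n ^ m * v n a = ee n ^ ((a (i0 n)).val + m) * ∏ j ∈ Finset.univ.erase (i0 n), fac n j (a j) := by
    rw [v_split a (i0 n), fac_i0, pow_add]
    ring
  split_ifs with h
  · rw [v_setAt, fac_i0, e]
  · rw [e, ee_pow_eq_zero (by omega), zero_mul]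

/-- The target of `1 + τ` on an odd basis vector. -/
def shift (hn : 2 ≤ n) (a : Idx n) (h : (a (i0 n)).val + 1 < n) : Idx n :=
  setAt (setAt a (i1 n hn) ((a (i1 n hn)).val - 1) (lt_of_le_of_lt (Nat.sub_le _ _) (a (i1 n hn)).isLt))
    (i0 n) ((a (i0 n)).val + 1) h

lemma shift_i0 (hn : 2 ≤ n) (a : Idx n) (h : (a (i0 n)).val + 1 < n) :
    ((shift hn a h) (i0 n)).val = (a (i0 n)).val + 1 := setAt_self _ _ _ _

lemma shift_i1 (hn : 2 ≤ n) (a : Idx n) (h : (a (i0 n)).val + 1 < n) :
    ((shift hn a h) (i1 n hn)).val = (a (i1 n hn)).val - 1 := by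
  rw [shift, setAt_ne _ _ _ (i1_ne_i0 hn), setAt_self]

lemma shift_injective (hn : 2 ≤ n) {a a' : Idx n} (ha : par a = 1) (ha' : par a' = 1)
    (h : (a (i0 n)).val + 1 < n) (h' : (a' (i0 n)).val + 1 < n) (he : shift hn a h = shift hn a' h') : a = a' := by
  rw [par_eq hn] at ha ha'
  funext j
  have hj := congrArg (fun b : Idx n => (b j).val) he
  apply Fin.ext
  by_cases h0 : j = i0 n
  · subst h0
    simp only [shift_i0] at hj
    omega
  by_cases h1 : j = i1 n hn
  · subst h1
    simp only [shift_i1] at hj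
    omega
  simpa [shift, setAt_ne _ _ _ h0, setAt_ne _ _ _ h1] using hj

/-- The fixed index set. -/
def fixIdx (n : ℕ) : Set (Idx n) := {a | par a = 0 ∨ (a (i0 n)).val + 1 = n}

section Tau

variable (hn : 2 ≤ n) (τ : P n →ₐ[ZMod 2] P n) (hτ1 : τ (eps n 1) = eps n 1)
  (hτ : ∀ j : ℕ, 2 ≤ j → j ≤ numVars n → τ (eps n j) = eps n j + eps n 1 ^ (2 * j - 3))

include hn hτ1 hτ

lemma tau_tt : τ (tt n) = tt n + ee n := by
  rw [hτ 2 le_rfl (by unfold numVars; omega), pow_one]

lemma tau_uu : τ (uu n) = uu n := by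
  rw [map_add, map_mul, map_pow, hτ1, tau_tt hn τ hτ1 hτ]
  linear_combination (ee n * tt n + ee n ^ 2) * (two_eq_zero : (2 : P n) = 0)

lemma tau_eta {i : Fin (numVars n)} (h0 : i ≠ i0 n) (h1 : i ≠ i1 n hn) : τ (eta n i) = eta n i := by
  have hi0 : i.val ≠ 0 := fun h => h0 (Fin.ext h)
  have hi1 : i.val ≠ 1 := fun h => h1 (Fin.ext h)
  have hj : 2 * (i.val + 1) - 3 = 2 * (i.val + 1) - 4 + 1 := by omega
  rw [eta, map_add, map_mul, map_pow, hτ1, tau_tt hn τ hτ1 hτ, hτ (i.val + 1) (by omega) i.isLt, hj, pow_succ]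
  linear_combination (eps n 1 ^ (2 * (i.val + 1) - 4) * eps n 1) * (two_eq_zero : (2 : P n) = 0)

lemma v_add_tau (a : Idx n) :
    v n a + τ (v n a) = if h : par a = 1 ∧ (a (i0 n)).val + 1 < n then v n (shift hn a h.2) else 0 := by
  classical
  have hrest : τ (∏ j ∈ Finset.univ.erase (i1 n hn), fac n j (a j)) = ∏ j ∈ Finset.univ.erase (i1 n hn), fac n j (a j) := by
    rw [map_prod]
    refine Finset.prod_congr rfl fun j hj => ?_
    by_cases h0 : j = i0 n
    · subst h0; rw [fac_i0, map_pow, hτ1]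
    · rw [fac_other hn h0 (Finset.ne_of_mem_erase hj), map_pow, tau_eta hn τ hτ1 hτ h0 (Finset.ne_of_mem_erase hj)]
  rw [v_split a (i1 n hn), map_mul, hrest, fac_i1, map_mul, map_pow, map_pow, tau_tt hn τ hτ1 hτ, tau_uu hn τ hτ1 hτ]
  rcases Nat.mod_two_eq_zero_or_one (a (i1 n hn)).val with h | h
  · rw [dif_neg (by rw [par_eq hn]; omega), h, pow_zero, pow_zero]
    exact add_self _
  · rw [h, pow_one, pow_one]
    have e : tt n * uu n ^ ((a (i1 n hn)).val / 2) * (∏ j ∈ Finset.univ.erase (i1 n hn), fac n j (a j)) +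
        (tt n + ee n) * uu n ^ ((a (i1 n hn)).val / 2) * (∏ j ∈ Finset.univ.erase (i1 n hn), fac n j (a j)) =
        ee n ^ 1 * v n (setAt a (i1 n hn) ((a (i1 n hn)).val - 1) (lt_of_le_of_lt (Nat.sub_le _ _) (a (i1 n hn)).isLt)) := by
      rw [v_setAt, fac_i1, show ((a (i1 n hn)).val - 1) % 2 = 0 by omega,
        show ((a (i1 n hn)).val - 1) / 2 = (a (i1 n hn)).val / 2 by omega]
      linear_combination (tt n * uu n ^ ((a (i1 n hn)).val / 2) * (∏ j ∈ Finset.univ.erase (i1 n hn), fac n j (a j))) *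
        (two_eq_zero : (2 : P n) = 0)
    rw [e, ee_pow_mul_v]
    have e0 : setAt a (i1 n hn) ((a (i1 n hn)).val - 1) (lt_of_le_of_lt (Nat.sub_le _ _) (a (i1 n hn)).isLt) (i0 n) = a (i0 n) :=
      setAt_ne _ _ _ (i1_ne_i0 hn).symm
    by_cases hlt : (a (i0 n)).val + 1 < n
    · rw [dif_pos (by rw [e0]; exact hlt), dif_pos ⟨by rw [par_eq hn]; exact h, hlt⟩, shift]
      congr 1
    · rw [dif_neg (by rw [e0]; exact hlt), dif_neg (fun h' => hlt h'.2)]

/-- `1 + τ` as a linear map. -/
noncomputable def dd (τ : P n →ₐ[ZMod 2] P n) : P n →ₗ[ZMod 2] P n := LinearMap.id + τ.toLinearMap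

omit hn hτ1 hτ in
lemma dd_apply (y : P n) : dd τ y = y + τ y := rfl

lemma repr_dd (y : P n) (a : Idx n) (ha : par a = 1) (h : (a (i0 n)).val + 1 < n) :
    (basis hn).repr (dd τ y) (shift hn a h) = (basis hn).repr y a := by
  classical
  have key : ((Finsupp.lapply (shift hn a h)).comp (basis hn).repr.toLinearMap).comp (dd τ) =
      (Finsupp.lapply a).comp (basis hn).repr.toLinearMap := by
    refine (basis hn).ext fun a' => ?_
    simp only [LinearMap.comp_apply, LinearEquiv.coe_coe, Finsupp.lapply_apply, dd_apply, basis_apply,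
      v_add_tau hn τ hτ1 hτ a']
    rw [← basis_apply hn a', Module.Basis.repr_self, Finsupp.single_apply]
    split_ifs with h' he he
    · subst he
      rw [← basis_apply hn, Module.Basis.repr_self, Finsupp.single_eq_same]
    · rw [← basis_apply hn, Module.Basis.repr_self, Finsupp.single_eq_of_ne]
      exact fun hs => he (shift_injective hn h'.1 ha h'.2 h hs.symm)
    · subst he; exact absurd ⟨ha, h⟩ h'
    · simp
  exact LinearMap.congr_fun key y

theorem fixed_iff (y : P n) : τ y = y ↔ y ∈ Submodule.span (ZMod 2) (v n '' fixIdx n) := by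
  classical
  constructor
  · intro h
    have hb : (v n : Idx n → P n) = basis hn := funext fun a => (basis_apply hn a).symm
    rw [hb, Module.Basis.mem_span_image]
    intro a ha
    rw [Finset.mem_coe, Finsupp.mem_support_iff] at ha
    by_contra hna
    simp only [fixIdx, Set.mem_setOf_eq, not_or] at hna
    have hp : par a = 1 := by
      have := par_eq hn a
      omega
    have hlt : (a (i0 n)).val + 1 < n := by
      have : (a (i0 n)).val < n := (a (i0 n)).isLt
      omega
    apply ha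
    rw [← repr_dd hn τ hτ1 hτ y a hp hlt, dd_apply, h, add_self, map_zero, Finsupp.zero_apply]
  · intro h
    have hle : Submodule.span (ZMod 2) (v n '' fixIdx n) ≤ LinearMap.ker (dd τ) := by
      rw [Submodule.span_le]
      rintro _ ⟨a, ha, rfl⟩
      rw [SetLike.mem_coe, LinearMap.mem_ker, dd_apply, v_add_tau hn τ hτ1 hτ, dif_neg]
      rintro ⟨hp, hlt⟩
      rcases ha with ha | ha <;> omega
    have := hle h
    rw [LinearMap.mem_ker, dd_apply] at this
    exact (eq_of_add_eq_zero this).symm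

/-- The image of `1 + τ` is contained in the span of the shifted vectors. -/
theorem dd_mem (y : P n) :
    y + τ y ∈ Submodule.span (ZMod 2) (v n '' {b | par b = 0 ∧ 1 ≤ (b (i0 n)).val}) := by
  classical
  have : LinearMap.range (dd τ) ≤ Submodule.span (ZMod 2) (v n '' {b | par b = 0 ∧ 1 ≤ (b (i0 n)).val}) := by
    rw [LinearMap.range_eq_map, ← (basis hn).span_eq, Submodule.map_span, Submodule.span_le]
    rintro _ ⟨_, ⟨a, rfl⟩, rfl⟩
    rw [SetLike.mem_coe, basis_apply, dd_apply, v_add_tau hn τ hτ1 hτ]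
    split_ifs with h
    · refine Submodule.subset_span ⟨_, ⟨?_, ?_⟩, rfl⟩
      · have := par_eq hn a
        rw [par_eq hn, shift_i1]
        omega
      · rw [shift_i0]; omega
    · exact zero_mem _
  exact this ⟨y, rfl⟩

theorem ee_mul_fixed_mem {z : P n} (hz : τ z = z) : ee n * z ∈ LinearMap.range (dd τ) := by
  classical
  rw [fixed_iff hn τ hτ1 hτ] at hz
  have : (Submodule.span (ZMod 2) (v n '' fixIdx n)).map (LinearMap.mulLeft (ZMod 2) (ee n)) ≤ LinearMap.range (dd τ) := by
    rw [Submodule.map_span, Submodule.span_le]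
    rintro _ ⟨_, ⟨a, ha, rfl⟩, rfl⟩
    rw [LinearMap.mulLeft_apply, ← pow_one (ee n), ee_pow_mul_v]
    split_ifs with h
    · have hp : par a = 0 := by rcases ha with ha | ha <;> omega
      have hev := bound_i1_even hn
      have hlt : (a (i1 n hn)).val + 1 < bound n (i1 n hn) := by
        have := (a (i1 n hn)).isLt
        rw [par_eq hn] at hp
        omega
      set b := setAt a (i1 n hn) ((a (i1 n hn)).val + 1) hlt with hb
      have hb0 : b (i0 n) = a (i0 n) := setAt_ne _ _ _ (i1_ne_i0 hn).symm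
      have hb1 : (b (i1 n hn)).val = (a (i1 n hn)).val + 1 := setAt_self _ _ _ _
      have hc : par b = 1 ∧ (b (i0 n)).val + 1 < n := ⟨by rw [par_eq hn] at hp ⊢; omega, by rw [hb0]; exact h⟩
      refine ⟨v n b, ?_⟩
      rw [dd_apply, v_add_tau hn τ hτ1 hτ, dif_pos hc]
      congr 1
      funext j
      apply Fin.ext
      by_cases h0 : j = i0 n
      · subst h0; rw [shift_i0, setAt_self, hb0]
      by_cases h1 : j = i1 n hn
      · subst h1; rw [shift_i1, setAt_ne _ _ _ h0, hb1]; omega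
      simp only [shift, hb, setAt_ne _ _ _ h0, setAt_ne _ _ _ h1]
    · exact zero_mem _
  exact this ⟨z, hz, rfl⟩

/-- An element of `(1 + τ)P ∩ e^m P` is `e^m` times a fixed element. -/
theorem exists_fixed_factor {m : ℕ} (hm : 1 ≤ m) {y : P n} (hy : y + τ y ∈ Ideal.span ({ee n ^ m} : Set (P n))) :
    ∃ z : P n, τ z = z ∧ y + τ y = ee n ^ m * z := by
  classical
  have hb : (v n : Idx n → P n) = basis hn := funext fun a => (basis_apply hn a).symm
  have h1 := dd_mem hn τ hτ1 hτ y
  rw [hb, Module.Basis.mem_span_image] at h1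
  obtain ⟨q, hq⟩ := Ideal.mem_span_singleton'.mp hy
  have h2 : y + τ y ∈ Submodule.span (ZMod 2) (v n '' {b | m ≤ (b (i0 n)).val}) := by
    rw [← hq, mul_comm]
    have : LinearMap.range (LinearMap.mulLeft (ZMod 2) (ee n ^ m)) ≤
        Submodule.span (ZMod 2) (v n '' {b | m ≤ (b (i0 n)).val}) := by
      rw [LinearMap.range_eq_map, ← (basis hn).span_eq, Submodule.map_span, Submodule.span_le]
      rintro _ ⟨_, ⟨a, rfl⟩, rfl⟩
      rw [LinearMap.mulLeft_apply, basis_apply, ee_pow_mul_v]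
      split_ifs with h
      · exact Submodule.subset_span ⟨_, by rw [Set.mem_setOf_eq, setAt_self]; omega, rfl⟩
      · exact zero_mem _
    exact this ⟨q, rfl⟩
  rw [hb, Module.Basis.mem_span_image] at h2
  have h3 : y + τ y ∈ (Submodule.span (ZMod 2) (v n '' fixIdx n)).map (LinearMap.mulLeft (ZMod 2) (ee n ^ m)) := by
    rw [← (basis hn).linearCombination_repr (y + τ y), Finsupp.linearCombination_apply, Finsupp.sum]
    refine Submodule.sum_mem _ fun b hbs => Submodule.smul_mem _ _ ?_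
    obtain ⟨hp, -⟩ := h1 hbs
    have hm' : m ≤ (b (i0 n)).val := h2 hbs
    have hlt : (b (i0 n)).val - m < n := lt_of_le_of_lt (Nat.sub_le _ _) (b (i0 n)).isLt
    refine ⟨v n (setAt b (i0 n) ((b (i0 n)).val - m) hlt), Submodule.subset_span ⟨_, Or.inl ?_, rfl⟩, ?_⟩
    · rw [par_eq hn] at hp ⊢
      rw [setAt_ne _ _ _ (i1_ne_i0 hn)]
      exact hp
    · have hbn : (b (i0 n)).val < n := (b (i0 n)).isLt
      rw [LinearMap.mulLeft_apply, ee_pow_mul_v, dif_pos (by rw [setAt_self]; omega), basis_apply]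
      congr 1
      funext j
      apply Fin.ext
      by_cases h0 : j = i0 n
      · subst h0; rw [setAt_self, setAt_self]; omega
      · rw [setAt_ne _ _ _ h0, setAt_ne _ _ _ h0]
  obtain ⟨z, hz, hzy⟩ := h3
  exact ⟨z, (fixed_iff hn τ hτ1 hτ z).mpr hz, hzy.symm⟩

end Tau

end Groth.Agent.H68.QsP
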