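import Groth.Agent.H68.QsP.Pres
import Groth.Prelude.Def_W4c4chowquasisplitPn2

/-!
The relations modulo a power of `e_1`.
-/

set_option autoImplicit false

open MvPolynomial QsChow

namespace Groth.Agent.H68.QsP

variable {n : ℕ}

lemma twoExp_spec (hn : 2 ≤ n) : ∃ d, Odd d ∧ n = 2 ^ twoExp n * d := by
  haveI : Fact (Nat.Prime 2) := ⟨Nat.prime_two⟩
  obtain ⟨d, hd⟩ := pow_padicValNat_dvd (p := 2) (n := n)
  refine ⟨d, ?_, hd⟩
  rw [Nat.odd_iff]
  by_contra h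
  obtain ⟨c, hc⟩ : 2 ∣ d := Nat.dvd_of_mod_eq_zero (by omega)
  refine pow_succ_padicValNat_not_dvd (p := 2) (n := n) (by omega) ⟨c, ?_⟩
  subst hc
  rw [pow_succ, mul_assoc]
  exact hd

lemma twoExp_unique {m d : ℕ} (hd : Odd d) (h : n = 2 ^ m * d) : twoExp n = m := by
  haveI : Fact (Nat.Prime 2) := ⟨Nat.prime_two⟩
  subst h
  unfold twoExp
  rw [padicValNat.mul (by positivity) hd.pos.ne', padicValNat.prime_pow,
    padicValNat.eq_zero_of_not_dvd (fun hdvd => Nat.not_even_iff_odd.mpr hd (even_iff_two_dvd.mpr hdvd)), add_zero]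

lemma lIdx_eq {d : ℕ} (h : n = 2 ^ twoExp n * d) : lIdx n = (d + 3) / 2 := by
  unfold lIdx
  rw [show n / 2 ^ twoExp n = d from Nat.div_eq_of_eq_mul_right (Nat.two_pow_pos _) h]

lemma pow_two_twoExp_le (hn : 2 ≤ n) : 2 ^ twoExp n ≤ n := by
  obtain ⟨d, hd, h⟩ := twoExp_spec hn
  calc 2 ^ twoExp n ≤ 2 ^ twoExp n * d := Nat.le_mul_of_pos_right _ hd.pos
    _ = n := h.symm

lemma kprime_one : kprime n 1 = twoExp n := if_pos rfl

lemma kprime_two : kprime n 2 = Nat.log 2 n := by simp [kprime]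

lemma eq_pow_of_klog_two_eq (h : 2 ^ klog n 2 = n) : n = 2 ^ twoExp n := by
  rw [twoExp_unique (n := n) (m := klog n 2) (d := 1) odd_one (by rw [mul_one]; exact h.symm)]
  exact h.symm

/-- The case where `n` is not a power of two. -/
lemma klog_two_of_ne (hn : 2 ≤ n) (hne : n ≠ 2 ^ twoExp n) :
    klog n 2 = kprime n 2 + 1 ∧ twoExp n ≤ kprime n 2 ∧
      2 ^ twoExp n ≤ 2 ^ klog n 2 - n ∧ 1 ≤ 2 ^ klog n 2 - n := by
  obtain ⟨hb1, hb2, hb3⟩ := klog_two_bounds hn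
  have hN : n < 2 ^ klog n 2 := lt_of_le_of_ne hb1 fun h => hne (eq_pow_of_klog_two_eq h.symm)
  obtain ⟨m, hm⟩ : ∃ m, klog n 2 = m + 1 := ⟨klog n 2 - 1, by omega⟩
  rw [hm, pow_succ] at hb2 hN
  have hlog : Nat.log 2 n = m := Nat.log_eq_of_pow_le_of_lt_pow (by omega) (by rw [pow_succ]; omega)
  rw [kprime_two, hlog]
  have ha := pow_two_twoExp_le hn
  have ham : twoExp n ≤ m := by
    have : 2 ^ twoExp n < 2 ^ (m + 1) := by rw [pow_succ]; omega
    have := (Nat.pow_lt_pow_iff_right (by norm_num)).mp this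
    omega
  refine ⟨hm, ham, ?_, by rw [hm, pow_succ]; omega⟩
  refine Nat.le_of_dvd (by rw [hm, pow_succ]; omega) (Nat.dvd_sub (Nat.pow_dvd_pow 2 (by omega)) ?_)
  obtain ⟨d, -, hd⟩ := twoExp_spec hn
  exact ⟨d, hd⟩

lemma klog_two_of_eq (hn : 2 ≤ n) (he : n = 2 ^ twoExp n) : klog n 2 = twoExp n ∧ kprime n 2 = twoExp n := by
  obtain ⟨hb1, hb2, hb3⟩ := klog_two_bounds hn
  constructor
  · have h1 : 2 ^ twoExp n ≤ 2 ^ klog n 2 := by omega
    have h2 : 2 ^ klog n 2 < 2 ^ (twoExp n + 1) := by rw [pow_succ]; omega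
    have := (Nat.pow_le_pow_iff_right (by norm_num)).mp h1
    have := (Nat.pow_lt_pow_iff_right (by norm_num)).mp h2
    omega
  · rw [kprime_two]
    conv_lhs => rw [he]
    exact Nat.log_pow (by norm_num) _

lemma kprime_of_ge {j : ℕ} (hn : 2 ≤ n) (h3 : 3 ≤ j) (hj : j ≤ numVars n) :
    ((2 * j - 3) * 2 ^ klog n j ≠ n → kprime n j = klog n j ∧ j ≠ lIdx n) ∧
    ((2 * j - 3) * 2 ^ klog n j = n →
      j = lIdx n ∧ klog n j = twoExp n ∧ kprime n j = twoExp n + 1 ∧ n ≠ 2 ^ twoExp n) := by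
  obtain ⟨hb1, hb2, hb3⟩ := klog_bounds hn (by omega : 2 ≤ j) hj
  have hk : kprime n j = Nat.log 2 (2 * n / (2 * j - 3)) := by
    unfold kprime
    rw [if_neg (by omega), if_neg (by omega)]
  set d := 2 * j - 3 with hd
  have hd3 : 3 ≤ d := by omega
  have hdodd : Odd d := Nat.odd_iff.mpr (by omega)
  constructor
  · intro hne
    refine ⟨?_, fun hl => hne ?_⟩
    · rw [hk]
      refine Nat.log_eq_of_pow_le_of_lt_pow ?_ ?_
      · exact (Nat.le_div_iff_mul_le (by omega)).mpr (by rw [mul_comm]; omega)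
      · refine (Nat.div_lt_iff_lt_mul (by omega)).mpr ?_
        rw [pow_succ, mul_comm (2 ^ klog n j), mul_assoc]
        have : n < 2 ^ klog n j * d := by rw [mul_comm]; omega
        omega
    · obtain ⟨d0, hd0, hn0⟩ := twoExp_spec hn
      have hl' : d = d0 := by
        rw [lIdx_eq hn0] at hl
        have := Nat.odd_iff.mp hd0
        omega
      subst hl'
      have h1 : 2 ^ twoExp n ≤ 2 ^ klog n j :=
        Nat.le_of_mul_le_mul_left (by rw [mul_comm d (2 ^ twoExp n), ← hn0]; exact hb1) (by omega)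
      have h2 : 2 ^ klog n j < 2 ^ (twoExp n + 1) :=
        Nat.lt_of_mul_lt_mul_left (a := d) (by rw [pow_succ, ← mul_assoc, mul_comm d (2 ^ twoExp n), ← hn0]; omega)
      have := (Nat.pow_le_pow_iff_right (by norm_num)).mp h1
      have := (Nat.pow_lt_pow_iff_right (by norm_num)).mp h2
      rw [show klog n j = twoExp n by omega, mul_comm, ← hn0]
  · intro he
    have ha : twoExp n = klog n j := twoExp_unique hdodd (by rw [mul_comm]; exact he.symm)
    refine ⟨?_, ha.symm, ?_, ?_⟩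
    · rw [lIdx_eq (d := d) (by rw [ha, mul_comm]; exact he.symm)]
      omega
    · rw [hk, ha]
      have : 2 * n / d = 2 ^ (klog n j + 1) := by
        rw [pow_succ]
        exact Nat.div_eq_of_eq_mul_right (by omega) (by rw [← mul_assoc, he, mul_comm])
      rw [this, Nat.log_pow (by norm_num)]
    · intro h
      rw [ha] at h
      have : 2 ^ klog n j * 3 ≤ 2 ^ klog n j * d := Nat.mul_le_mul_left _ hd3
      have := Nat.two_pow_pos (klog n j)
      have : d * 2 ^ klog n j = 2 ^ klog n j * d := mul_comm _ _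
      omega

lemma two_pow_le_sub_one_mul {a k d : ℕ} (hd : 3 ≤ d) (hodd : Odd d) (h : 2 ^ a ≤ d * 2 ^ k) :
    2 ^ a ≤ (d - 1) * 2 ^ k := by
  rcases Nat.lt_or_ge k a with hka | hka
  · obtain ⟨c, rfl⟩ := Nat.exists_eq_add_of_lt hka
    rw [show k + c + 1 = c + 1 + k by omega, pow_add] at h ⊢
    refine Nat.mul_le_mul_right _ ?_
    have h1 := Nat.le_of_mul_le_mul_right h (Nat.two_pow_pos k)
    have h2 := Nat.odd_iff.mp hodd
    rw [pow_succ] at h1 ⊢
    omega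
  · calc 2 ^ a ≤ 2 ^ k := Nat.pow_le_pow_right (by norm_num) hka
      _ ≤ (d - 1) * 2 ^ k := Nat.le_mul_of_pos_left _ (by omega)

section Rel

variable {R : Type} [CommRing R] [Algebra (ZMod 2) R] (hn : 2 ≤ n) (f : FreeE n →ₐ[ZMod 2] R)
  (he : f (evar n 1) ^ 2 ^ twoExp n = 0) (hx : f (evar n 1) * f (xvar n) = 0)

include he in
lemma f_e_pow {m : ℕ} (h : 2 ^ twoExp n ≤ m) : f (evar n 1) ^ m = 0 := pow_eq_zero_of_le h he

include hn he hx

lemma f_hrel_two (hne : n ≠ 2 ^ twoExp n) : f (hrel n 2) = f (evar n 2) ^ 2 ^ kprime n 2 := by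
  obtain ⟨hk, hak, -, h1⟩ := klog_two_of_ne hn hne
  obtain ⟨e, he'⟩ : ∃ e, 2 ^ klog n 2 - n = e + 1 := ⟨2 ^ klog n 2 - n - 1, by omega⟩
  simp only [hrel, if_true, map_add, map_mul, map_pow, he', sPoly, map_sum]
  rw [pow_succ, mul_assoc, hx, mul_zero, zero_add, hk, Finset.sum_range_succ, Finset.sum_eq_zero, zero_add, Nat.sub_self,
    pow_zero, one_mul]
  intro t ht
  rw [f_e_pow f he, zero_mul]
  have h2 : 2 ^ (t + 1) ≤ 2 ^ kprime n 2 := Nat.pow_le_pow_right (by norm_num) (Finset.mem_range.mp ht)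
  have h3 : 2 ^ twoExp n ≤ 2 ^ kprime n 2 := Nat.pow_le_pow_right (by norm_num) hak
  rw [pow_succ 2 (kprime n 2)]
  omega

lemma f_hrel_ge {j : ℕ} (h3 : 3 ≤ j) (hj : j ≤ numVars n) :
    f (hrel n j) = f (evar n j) ^ 2 ^ klog n j + if (2 * j - 3) * 2 ^ klog n j = n then f (xvar n) else 0 := by
  obtain ⟨hb1, hb2, hb3⟩ := klog_bounds hn (by omega : 2 ≤ j) hj
  have hM : 2 ^ twoExp n ≤ (2 * j - 4) * 2 ^ klog n j := by
    rw [show 2 * j - 4 = 2 * j - 3 - 1 by omega]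
    exact two_pow_le_sub_one_mul (by omega) (Nat.odd_iff.mpr (by omega)) (le_trans (pow_two_twoExp_le hn) hb1)
  rw [hrel, if_neg (by omega), if_pos ⟨h3, hj⟩, map_add, map_add, map_mul, map_mul, map_pow, map_pow, map_pow,
    f_e_pow f he hM, zero_mul, add_zero]
  split_ifs with h
  · rw [h, Nat.sub_self, pow_zero, one_mul]
  · obtain ⟨e, he'⟩ : ∃ e, (2 * j - 3) * 2 ^ klog n j - n = e + 1 := ⟨_, (Nat.sub_add_cancel (by omega)).symm⟩
    rw [he', pow_succ, mul_assoc, hx, mul_zero]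

end Rel

section Iff

variable (hn : 2 ≤ n) (τ : P n →ₐ[ZMod 2] P n) (hτ1 : τ (eps n 1) = eps n 1)
  (hτ : ∀ j : ℕ, 2 ≤ j → j ≤ numVars n → τ (eps n j) = eps n j + eps n 1 ^ (2 * j - 3))

/-- The relations together with `e_1^M`. -/
noncomputable def modIdeal (n M : ℕ) : Ideal (FreeE n) := presIdeal n ⊔ Ideal.span {evar n 1 ^ M}

include hn hτ1 hτ

theorem phi_mem_iff (M : ℕ) (q : FreeE n) :
    (∃ z, τ z = z ∧ phi n q = eps n 1 ^ M * z) ↔ q ∈ modIdeal n M := by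
  rw [modIdeal, Submodule.mem_sup]
  constructor
  · rintro ⟨z, hz, hq⟩
    obtain ⟨r, rfl⟩ := (mem_range_phi_iff hn τ hτ1 hτ z).mpr hz
    refine ⟨q - evar n 1 ^ M * r, ?_, evar n 1 ^ M * r, Ideal.mul_mem_right _ _ (Ideal.mem_span_singleton_self _), sub_add_cancel _ _⟩
    rw [← ker_phi hn, RingHom.mem_ker, map_sub, map_mul, map_pow, phi_evar_one, hq, sub_self]
  · rintro ⟨a, ha, b, hb, rfl⟩
    obtain ⟨r, rfl⟩ := Ideal.mem_span_singleton'.mp hb
    refine ⟨phi n r, (mem_range_phi_iff hn τ hτ1 hτ _).mp ⟨r, rfl⟩, ?_⟩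
    rw [map_add, RingHom.mem_ker.mp (presIdeal_le_ker hn ha), zero_add, map_mul, map_pow, phi_evar_one, mul_comm]

end Iff

end Groth.Agent.H68.QsP
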