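import Groth.Agent.H68.QsP.Fixed

/-!
The presentation of the invariant subalgebra.
-/

set_option autoImplicit false

open MvPolynomial QsChow

namespace Groth.Agent.H68.QsP

open Tower

variable {n : ℕ}

/-- The quotient by the relations. -/
abbrev Q (n : ℕ) : Type := FreeE n ⧸ presIdeal n

/-- The quotient map. -/
noncomputable abbrev mkQ (n : ℕ) : FreeE n →ₐ[ZMod 2] Q n := Ideal.Quotient.mkₐ (ZMod 2) (presIdeal n)

/-- Image of `e_j`. -/
noncomputable abbrev qe (n j : ℕ) : Q n := mkQ n (evar n j)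

/-- Image of `x`. -/
noncomputable abbrev qx (n : ℕ) : Q n := mkQ n (xvar n)

lemma mkQ_eq_zero {q : FreeE n} (h : q ∈ presIdeal n) : mkQ n q = 0 := Ideal.Quotient.eq_zero_iff_mem.mpr h

lemma qe_one_pow {m : ℕ} (h : n ≤ m) : qe n 1 ^ m = 0 := by
  refine pow_eq_zero_of_le h ?_
  rw [← map_pow]
  exact mkQ_eq_zero (Ideal.subset_span (Or.inl (Or.inl rfl)))

lemma qe_one_mul_qx : qe n 1 * qx n = 0 := by
  rw [← map_mul]
  exact mkQ_eq_zero (Ideal.subset_span (Or.inl (Or.inr (Or.inl rfl))))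

lemma qx_sq : qx n ^ 2 = 0 := by
  rw [← map_pow]
  exact mkQ_eq_zero (Ideal.subset_span (Or.inl (Or.inr (Or.inr rfl))))

lemma mkQ_hrel {i : Fin (numVars n)} : mkQ n (hrel n (i.val + 1)) = 0 :=
  mkQ_eq_zero (Ideal.subset_span (Or.inr ⟨i, rfl⟩))

/-- The factors of the spanning set of the quotient. -/
noncomputable def facQ (n : ℕ) (i : Fin (numVars n)) (c : ℕ) : Q n :=
  if i.val = 0 then qe n 1 ^ c else if i.val = 1 then qx n ^ (c % 2) * qe n 2 ^ (c / 2) else qe n (i.val + 1) ^ c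

/-- The spanning family of the quotient. -/
noncomputable def w (n : ℕ) (a : Idx n) : Q n := ∏ i, facQ n i (a i)

lemma facQ_i0 (c : ℕ) : facQ n (i0 n) c = qe n 1 ^ c := rfl
lemma facQ_i1 (hn : 2 ≤ n) (c : ℕ) : facQ n (i1 n hn) c = qx n ^ (c % 2) * qe n 2 ^ (c / 2) := rfl
lemma facQ_other (hn : 2 ≤ n) {i : Fin (numVars n)} (h0 : i ≠ i0 n) (h1 : i ≠ i1 n hn) (c : ℕ) :
    facQ n i c = qe n (i.val + 1) ^ c := by
  unfold facQ
  rw [if_neg (fun h : i.val = 0 => h0 (Fin.ext h)), if_neg (fun h : i.val = 1 => h1 (Fin.ext h))]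

lemma q_base_closed (hn : 2 ≤ n) :
    Closed (prodSpan (ZMod 2) (bound n) (facQ n) {i0 n, i1 n hn}) ∧
      qe n 1 ∈ prodSpan (ZMod 2) (bound n) (facQ n) {i0 n, i1 n hn} ∧
      qe n 2 ∈ prodSpan (ZMod 2) (bound n) (facQ n) {i0 n, i1 n hn} ∧
      qx n ∈ prodSpan (ZMod 2) (bound n) (facQ n) {i0 n, i1 n hn} := by
  obtain ⟨hb1, hb2, hb3⟩ := klog_two_bounds hn
  obtain ⟨m, hm⟩ : ∃ m, klog n 2 = m + 1 := ⟨klog n 2 - 1, by omega⟩
  set S := pows (ZMod 2) (qe n 1) n with hS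
  obtain ⟨hSc, hSe⟩ := pows_closed (z := qe n 1) (N := n) (by omega) (qe_one_pow le_rfl)
  obtain ⟨hT1, hST1, hxT1⟩ := closed_mul (k := ZMod 2) hSc (z := qx n) (N := 2) two_pos (by rw [qx_sq]; exact zero_mem _)
  set T1 := S * pows (ZMod 2) (qx n) 2 with hT1def
  have hmem1 : ∀ {s : Q n} {c : ℕ}, s ∈ T1 → c < 2 ^ m → s * qe n 2 ^ c ∈ T1 * pows (ZMod 2) (qe n 2) (2 ^ m) :=
    fun hs hc => Submodule.mul_mem_mul hs (pow_mem_pows hc)
  let A : Subalgebra (ZMod 2) (Q n) := T1.toSubalgebra hT1.1 fun a b ha hb => hT1.2 (Submodule.mul_mem_mul ha hb)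
  have he : qe n 1 ∈ A := hST1 (hSe hn)
  have htop : qe n 2 ^ 2 ^ m ∈ T1 * pows (ZMod 2) (qe n 2) (2 ^ m) := by
    have h := mkQ_hrel (n := n) (i := i1 n hn)
    have h' : hrel n ((i1 n hn).val + 1) = evar n 1 ^ (2 ^ klog n 2 - n) * xvar n + sPoly n 2 := by
      simp [hrel, i1]
    rw [h', map_add, map_mul, map_pow] at h
    simp only [sPoly, hm, Finset.sum_range_succ, Nat.sub_self, pow_zero, one_mul, map_add, map_sum, map_mul, map_pow] at h
    have h'' : qe n 2 ^ 2 ^ m = qe n 1 ^ (2 ^ (m + 1) - n) * qx n +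
        ∑ r ∈ Finset.range m, qe n 1 ^ (2 ^ (m + 1) - 2 ^ (r + 1)) * qe n 2 ^ 2 ^ r := by
      linear_combination h - (qe n 1 ^ (2 ^ (m + 1) - n) * qx n +
        ∑ r ∈ Finset.range m, qe n 1 ^ (2 ^ (m + 1) - 2 ^ (r + 1)) * qe n 2 ^ 2 ^ r) * (two_eq_zero : (2 : Q n) = 0)
    rw [h'']
    refine add_mem ?_ (sum_mem fun r hr => hmem1 (A.pow_mem he _) (Nat.pow_lt_pow_right (by norm_num) (Finset.mem_range.mp hr)))
    have := hmem1 (A.mul_mem (A.pow_mem he (2 ^ (m + 1) - n)) (show qx n ∈ A from hxT1)) (Nat.two_pow_pos m : 0 < 2 ^ m)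
    rwa [pow_zero, mul_one] at this
  obtain ⟨hT2, hT12, huT2⟩ := closed_mul (k := ZMod 2) hT1 (Nat.two_pow_pos m) htop
  have hW : Submodule.span (ZMod 2) (Set.range fun c : Fin (bound n (i1 n hn)) => facQ n (i1 n hn) c) =
      pows (ZMod 2) (qx n) 2 * pows (ZMod 2) (qe n 2) (2 ^ m) := by
    have hb : bound n (i1 n hn) = 2 * 2 ^ m := by rw [bound_i1, hm, pow_succ']
    rw [pows, pows, Submodule.span_mul_span]
    congr 1
    ext y
    constructor
    · rintro ⟨c, rfl⟩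
      have hc : (c : ℕ) < 2 * 2 ^ m := by have := c.isLt; omega
      exact Set.mul_mem_mul ⟨⟨(c : ℕ) % 2, Nat.mod_lt _ two_pos⟩, rfl⟩ ⟨⟨(c : ℕ) / 2, by omega⟩, rfl⟩
    · rintro ⟨_, ⟨i, rfl⟩, _, ⟨j, rfl⟩, rfl⟩
      have hi := i.isLt
      have hj := j.isLt
      refine ⟨⟨2 * (j : ℕ) + i, by omega⟩, ?_⟩
      show qx n ^ ((2 * (j : ℕ) + i) % 2) * qe n 2 ^ ((2 * (j : ℕ) + i) / 2) = qx n ^ (i : ℕ) * qe n 2 ^ (j : ℕ)
      rw [show (2 * (j : ℕ) + i) % 2 = i by omega, show (2 * (j : ℕ) + i) / 2 = j by omega]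
  have e0 : prodSpan (ZMod 2) (bound n) (facQ n) {i0 n, i1 n hn} = T1 * pows (ZMod 2) (qe n 2) (2 ^ m) := by
    rw [prodSpan_pair hn (facQ n), hW, hT1def, mul_assoc]
    rfl
  rw [e0]
  exact ⟨hT2, hT12 he, huT2, hT12 hxT1⟩

lemma q_mem_subalgebra {A : Subalgebra (ZMod 2) (Q n)} (hx : qx n ∈ A)
    (h : ∀ i : Fin (numVars n), qe n (i.val + 1) ∈ A) (y : Q n) : y ∈ A := by
  obtain ⟨q, rfl⟩ := Ideal.Quotient.mk_surjective y
  induction q using MvPolynomial.induction_on with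
  | C c =>
    rw [← MvPolynomial.algebraMap_eq]
    exact A.algebraMap_mem c
  | add p q hp hq => rw [map_add]; exact A.add_mem hp hq
  | mul_X p o hp =>
    rw [map_mul]
    refine A.mul_mem hp ?_
    rcases o with _ | i
    · exact hx
    · have := h i
      rw [qe, evar, dif_pos ⟨Nat.succ_pos _, i.isLt⟩] at this
      exact this

theorem span_w (hn : 2 ≤ n) : Submodule.span (ZMod 2) (Set.range (w n)) = ⊤ := by
  classical
  obtain ⟨h0, he, hu, hx⟩ := q_base_closed hn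
  set J : Finset (Fin (numVars n)) := {i0 n, i1 n hn}
  let A0 : Subalgebra (ZMod 2) (Q n) := (prodSpan (ZMod 2) (bound n) (facQ n) J).toSubalgebra h0.1
    fun a b ha hb => h0.2 (Submodule.mul_mem_mul ha hb)
  have hd : Disjoint J (Finset.univ \ J) := Finset.disjoint_sdiff
  obtain ⟨hc, hle, hz⟩ := closed_prodSpan_union (k := ZMod 2) (bound n) (bound_pos hn) (facQ n) J (Finset.univ \ J) hd h0
    (fun i => qe n (i.val + 1))
    (fun i hi c => facQ_other hn (fun h => by simp [J, h] at hi) (fun h => by simp [J, h] at hi) c)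
    (fun i hi => by
      have hi0 : i ≠ i0 n := fun h => by simp [J, h] at hi
      have hi1 : i ≠ i1 n hn := fun h => by simp [J, h] at hi
      have e0 : i.val ≠ 0 := fun h => hi0 (Fin.ext h)
      have e1 : i.val ≠ 1 := fun h => hi1 (Fin.ext h)
      have h := mkQ_hrel (n := n) (i := i)
      rw [hrel, if_neg (by omega), if_pos ⟨by omega, i.isLt⟩] at h
      simp only [map_add, map_mul, map_pow] at h
      rw [add_assoc] at h
      rw [bound_of_ne hi0, eq_of_add_eq_zero h]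
      have hS : mkQ n (sPoly n (i.val + 1)) ∈ A0 := by
        simp only [sPoly, map_sum, map_mul, map_pow]
        exact sum_mem fun t _ => A0.mul_mem (A0.pow_mem (show qe n 1 ∈ A0 from he) _) (A0.pow_mem (show qe n 2 ∈ A0 from hu) _)
      exact A0.add_mem (A0.mul_mem (A0.pow_mem (show qe n 1 ∈ A0 from he) _) (show qx n ∈ A0 from hx))
        (A0.mul_mem (A0.pow_mem (show qe n 1 ∈ A0 from he) _) hS))
  rw [Finset.union_sdiff_of_subset (Finset.subset_univ _)] at hc hle hz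
  let A : Subalgebra (ZMod 2) (Q n) := (prodSpan (ZMod 2) (bound n) (facQ n) Finset.univ).toSubalgebra hc.1
    fun a b ha hb => hc.2 (Submodule.mul_mem_mul ha hb)
  refine eq_top_iff.mpr fun y _ => ?_
  refine q_mem_subalgebra (A := A) (hle hx) (fun i => ?_) y
  by_cases h0 : i = i0 n
  · subst h0; exact hle he
  by_cases h1 : i = i1 n hn
  · subst h1; exact hle hu
  exact hz i (by simp [J, h0, h1])

/-- The nonzero part of the index set. -/
def wIdx (n : ℕ) : Set (Idx n) := {a | par a = 0 ∨ (a (i0 n)).val = 0}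

lemma par_one_of_ne (hn : 2 ≤ n) {a : Idx n} (h : par a ≠ 0) : par a = 1 := by
  rw [par_eq hn] at h ⊢
  omega

lemma w_eq_zero (hn : 2 ≤ n) {a : Idx n} (h : a ∉ wIdx n) : w n a = 0 := by
  classical
  simp only [wIdx, Set.mem_setOf_eq, not_or] at h
  have hp := par_one_of_ne hn h.1
  rw [par_eq hn] at hp
  obtain ⟨c, hc⟩ := Nat.exists_eq_succ_of_ne_zero h.2
  have hne : i1 n hn ≠ i0 n := i1_ne_i0 hn
  rw [w, ← Finset.mul_prod_erase _ _ (Finset.mem_univ (i0 n)),
    ← Finset.mul_prod_erase _ _ (Finset.mem_erase.mpr ⟨hne, Finset.mem_univ _⟩), facQ_i0, facQ_i1, hc, hp, pow_one,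
    pow_succ]
  linear_combination (qe n 1 ^ c * qe n 2 ^ ((a (i1 n hn)).val / 2) *
    ∏ j ∈ (Finset.univ.erase (i0 n)).erase (i1 n hn), facQ n j (a j)) * (qe_one_mul_qx (n := n))

theorem span_w' (hn : 2 ≤ n) : Submodule.span (ZMod 2) (Set.range fun a : wIdx n => w n a) = ⊤ := by
  rw [eq_top_iff, ← span_w hn, Submodule.span_le]
  rintro _ ⟨a, rfl⟩
  by_cases h : a ∈ wIdx n
  · exact Submodule.subset_span ⟨⟨a, h⟩, rfl⟩
  · rw [w_eq_zero hn h]; exact zero_mem _

/-- The map on the quotient. -/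
noncomputable def phiBar (hn : 2 ≤ n) : Q n →ₐ[ZMod 2] P n :=
  Ideal.Quotient.liftₐ (presIdeal n) (phi n) fun q hq => RingHom.mem_ker.mp (presIdeal_le_ker hn hq)

lemma phiBar_mkQ (hn : 2 ≤ n) (q : FreeE n) : phiBar hn (mkQ n q) = phi n q := rfl

/-- The index of the image of a spanning vector. -/
def gIdx (hn : 2 ≤ n) (a : Idx n) : Idx n :=
  if par a = 0 then a else setAt a (i0 n) (n - 1) (show n - 1 < n by omega)

lemma gIdx_ne (hn : 2 ≤ n) (a : Idx n) {j : Fin (numVars n)} (hj : j ≠ i0 n) : gIdx hn a j = a j := by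
  unfold gIdx
  split_ifs
  · rfl
  · exact setAt_ne _ _ _ hj

lemma par_gIdx (hn : 2 ≤ n) (a : Idx n) : par (gIdx hn a) = par a := by
  rw [par_eq hn, par_eq hn, gIdx_ne hn a (i1_ne_i0 hn)]

lemma phiBar_w (hn : 2 ≤ n) {a : Idx n} (ha : a ∈ wIdx n) : phiBar hn (w n a) = v n (gIdx hn a) := by
  classical
  have hne : i1 n hn ≠ i0 n := i1_ne_i0 hn
  have hsplit : ∀ (R : Type) [CommRing R] (f : Fin (numVars n) → R),
      ∏ i, f i = f (i0 n) * (f (i1 n hn) * ∏ i ∈ (Finset.univ.erase (i0 n)).erase (i1 n hn), f i) := fun R _ f => by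
    rw [Finset.mul_prod_erase _ _ (Finset.mem_erase.mpr ⟨hne, Finset.mem_univ _⟩), Finset.mul_prod_erase _ _ (Finset.mem_univ _)]
  rw [w, v, hsplit, hsplit, map_mul, map_mul, map_prod, facQ_i0, facQ_i1, map_pow, map_mul, map_pow, map_pow,
    phiBar_mkQ, phiBar_mkQ, phiBar_mkQ, phi_evar_one, phi_xvar, phi_evar_two hn, fac_i0, gIdx_ne hn a hne, fac_i1]
  have hrest : ∀ i ∈ (Finset.univ.erase (i0 n)).erase (i1 n hn),
      phiBar hn (facQ n i (a i)) = fac n i (gIdx hn a i) := by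
    intro i hi
    obtain ⟨hi1, hi'⟩ := Finset.mem_erase.mp hi
    have hi0 := (Finset.mem_erase.mp hi').1
    rw [facQ_other hn hi0 hi1, fac_other hn hi0 hi1, map_pow, phiBar_mkQ, phi_evar_ge hn hi0 hi1, gIdx_ne hn a hi0]
  rw [Finset.prod_congr rfl hrest]
  by_cases hp : par a = 0
  · have e : gIdx hn a = a := if_pos hp
    rw [e]
    rw [par_eq hn] at hp
    rw [hp, pow_zero, pow_zero]
  · have h0 : (a (i0 n)).val = 0 := ha.resolve_left hp
    have hp1 := par_one_of_ne hn hp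
    rw [par_eq hn] at hp1
    have e : (gIdx hn a (i0 n)).val = n - 1 := by rw [gIdx, if_neg hp, setAt_self]
    rw [e, h0, hp1]
    ring

lemma gIdx_injOn (hn : 2 ≤ n) : Set.InjOn (gIdx hn) (wIdx n) := by
  intro a ha a' ha' he
  have hp : par a = par a' := by rw [← par_gIdx hn a, he, par_gIdx hn a']
  funext j
  by_cases hj : j = i0 n
  · subst hj
    by_cases h : par a = 0
    · rw [gIdx, gIdx, if_pos h, if_pos (hp ▸ h)] at he
      rw [he]
    · exact Fin.ext ((ha.resolve_left h).trans (ha'.resolve_left (hp ▸ h)).symm)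
  · rw [← gIdx_ne hn a hj, he, gIdx_ne hn a' hj]

lemma gIdx_image (hn : 2 ≤ n) : gIdx hn '' wIdx n = fixIdx n := by
  ext b
  constructor
  · rintro ⟨a, ha, rfl⟩
    by_cases h : par a = 0
    · exact Or.inl (by rw [par_gIdx]; exact h)
    · refine Or.inr ?_
      rw [gIdx, if_neg h, setAt_self]
      omega
  · intro hb
    by_cases h : par b = 0
    · exact ⟨b, Or.inl h, if_pos h⟩
    · have hb0 : (b (i0 n)).val + 1 = n := hb.resolve_left h
      refine ⟨setAt b (i0 n) 0 (show 0 < n by omega), Or.inr (setAt_self _ _ _ _), ?_⟩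
      have hp : par (setAt b (i0 n) 0 (show 0 < n by omega)) = par b := by
        rw [par_eq hn, par_eq hn, setAt_ne _ _ _ (i1_ne_i0 hn)]
      rw [gIdx, if_neg (hp ▸ h)]
      funext j
      apply Fin.ext
      by_cases hj : j = i0 n
      · subst hj; rw [setAt_self]; omega
      · rw [setAt_ne _ _ _ hj, setAt_ne _ _ _ hj]

theorem phiBar_injective (hn : 2 ≤ n) : Function.Injective (phiBar hn) := by
  classical
  rw [injective_iff_map_eq_zero]
  intro y hy
  have hy' : y ∈ Submodule.span (ZMod 2) (Set.range fun a : wIdx n => w n a) := span_w' hn ▸ Submodule.mem_top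
  obtain ⟨c, rfl⟩ := (Submodule.mem_span_range_iff_exists_fun (ZMod 2)).mp hy'
  have hli : LinearIndependent (ZMod 2) (fun a : wIdx n => v n (gIdx hn a)) :=
    (linearIndependent_v hn).comp (fun a : wIdx n => gIdx hn a) fun a b h => Subtype.ext (gIdx_injOn hn a.2 b.2 h)
  simp only [map_sum, map_smul] at hy
  simp only [phiBar_w hn (Subtype.coe_prop _)] at hy
  simp [Fintype.linearIndependent_iff.mp hli c hy]

theorem ker_phi (hn : 2 ≤ n) : RingHom.ker (phi n) = presIdeal n := by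
  refine le_antisymm (fun q hq => ?_) (presIdeal_le_ker hn)
  have h : phiBar hn (mkQ n q) = 0 := RingHom.mem_ker.mp hq
  exact Ideal.Quotient.eq_zero_iff_mem.mp ((injective_iff_map_eq_zero _).mp (phiBar_injective hn) _ h)

theorem mem_range_phi_iff (hn : 2 ≤ n) (τ : P n →ₐ[ZMod 2] P n) (hτ1 : τ (eps n 1) = eps n 1)
    (hτ : ∀ j : ℕ, 2 ≤ j → j ≤ numVars n → τ (eps n j) = eps n j + eps n 1 ^ (2 * j - 3)) (y : P n) :
    (∃ q, phi n q = y) ↔ τ y = y := by
  classical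
  rw [fixed_iff hn τ hτ1 hτ, ← gIdx_image hn, Set.image_image]
  constructor
  · rintro ⟨q, rfl⟩
    have hq : mkQ n q ∈ Submodule.span (ZMod 2) (Set.range fun a : wIdx n => w n a) := span_w' hn ▸ Submodule.mem_top
    have h := Submodule.apply_mem_span_image_of_mem_span (phiBar hn).toLinearMap hq
    refine Submodule.span_mono ?_ h
    rintro _ ⟨_, ⟨a, rfl⟩, rfl⟩
    exact ⟨a, a.2, (phiBar_w hn a.2).symm⟩
  · intro h
    induction h using Submodule.span_induction with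
    | zero => exact ⟨0, map_zero _⟩
    | add a b _ _ ha hb =>
      obtain ⟨p, rfl⟩ := ha
      obtain ⟨q, rfl⟩ := hb
      exact ⟨p + q, map_add _ _ _⟩
    | smul r a _ ha =>
      obtain ⟨p, rfl⟩ := ha
      exact ⟨r • p, map_smul _ _ _⟩
    | mem z hz =>
      obtain ⟨a, ha, rfl⟩ := hz
      obtain ⟨q, hq⟩ := Ideal.Quotient.mk_surjective (w n a)
      exact ⟨q, ((phiBar_mkQ hn q).symm.trans (congrArg (phiBar hn) hq)).trans (phiBar_w hn ha)⟩

end Groth.Agent.H68.QsP
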