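import Groth.Agent.H68.QsP.Mod

/-!
Eliminating the variable `x`.
-/

set_option autoImplicit false

open MvPolynomial QsChow

namespace Groth.Agent.H68.QsP

variable {n : ℕ}

/-- The inclusion of the polynomials without `x`. -/
noncomputable def iota (n : ℕ) : FreeP n →ₐ[ZMod 2] FreeE n := rename some

/-- Substitute `y` for `x`. -/
noncomputable def subX (y : FreeP n) : FreeE n →ₐ[ZMod 2] FreeP n := aeval fun o => o.elim y X

lemma iota_evarE (j : ℕ) : iota n (evarE n j) = evar n j := by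
  unfold evarE evar
  split_ifs
  · exact rename_X _ _
  · exact map_zero _

lemma subX_evar (y : FreeP n) (j : ℕ) : subX y (evar n j) = evarE n j := by
  unfold evarE evar
  split_ifs
  · exact aeval_X _ _
  · exact map_zero _

lemma subX_xvar (y : FreeP n) : subX y (xvar n) = y := aeval_X _ _

lemma subX_iota (y q : FreeP n) : subX y (iota n q) = q := by
  rw [subX, iota, aeval_rename]
  exact aeval_X_left_apply q

lemma psi_eq (q : FreeP n) : psi n q = phi n (iota n q) := by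
  rw [phi, iota, aeval_rename]
  rfl

lemma sub_iota_subX_mem (J : Ideal (FreeE n)) (y : FreeP n) (hy : xvar n - iota n y ∈ J) (q : FreeE n) :
    q - iota n (subX y q) ∈ J := by
  have h : (Ideal.Quotient.mkₐ (ZMod 2) J).comp ((iota n).comp (subX y)) = Ideal.Quotient.mkₐ (ZMod 2) J := by
    apply MvPolynomial.algHom_ext
    rintro (_ | i)
    · rw [AlgHom.comp_apply, AlgHom.comp_apply]
      show Ideal.Quotient.mk J (iota n (subX y (xvar n))) = Ideal.Quotient.mk J (xvar n)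
      rw [subX_xvar]
      exact (Ideal.Quotient.mk_eq_mk_iff_sub_mem _ _).mpr (by simpa using J.neg_mem hy)
    · rw [AlgHom.comp_apply, AlgHom.comp_apply]
      congr 1
      rw [subX, aeval_X]
      exact rename_X _ _
  exact (Ideal.Quotient.mk_eq_mk_iff_sub_mem _ _).mp (AlgHom.congr_fun h q).symm

lemma sum_range_sq {R : Type} [CommRing R] [Algebra (ZMod 2) R] (m : ℕ) (g : ℕ → R) :
    (∑ r ∈ Finset.range m, g r) ^ 2 = ∑ r ∈ Finset.range m, g r ^ 2 := by
  induction m with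
  | zero => simp
  | succ m ih => rw [Finset.sum_range_succ, Finset.sum_range_succ, add_sq, two_eq_zero, zero_mul, zero_mul, add_zero, ih]

lemma sum_sq_eq {R : Type} [CommRing R] [Algebra (ZMod 2) R] (e u : R) (b : ℕ) (hb : 1 ≤ b) (he : e ^ 2 ^ b = 0) :
    (∑ t ∈ Finset.range b, e ^ (2 ^ b - 2 ^ (t + 1)) * u ^ 2 ^ t) ^ 2 = u ^ 2 ^ b := by
  obtain ⟨m, rfl⟩ : ∃ m, b = m + 1 := ⟨b - 1, by omega⟩
  rw [sum_range_sq, Finset.sum_range_succ, Finset.sum_eq_zero, zero_add, Nat.sub_self, pow_zero, one_mul, ← pow_mul,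
    ← pow_succ]
  intro t ht
  rw [mul_pow, ← pow_mul, pow_eq_zero_of_le ?_ he, zero_mul]
  have h2 : 2 ^ (t + 1) ≤ 2 ^ m := Nat.pow_le_pow_right (by norm_num) (Finset.mem_range.mp ht)
  rw [pow_succ 2 m]
  omega

lemma evar_zero_cases (hn : 2 ≤ n) (i : Fin (numVars n)) : i = i0 n ∨ i = i1 n hn ∨ 3 ≤ i.val + 1 := by
  rcases Nat.lt_or_ge i.val 1 with h | h
  · exact Or.inl (Fin.ext (show i.val = 0 by omega))
  rcases Nat.lt_or_ge i.val 2 with h' | h'
  · exact Or.inr (Or.inl (Fin.ext (show i.val = 1 by omega)))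
  · exact Or.inr (Or.inr (by omega))

lemma hrel_one : hrel n 1 = 0 := by
  unfold hrel
  rw [if_neg (by norm_num), if_neg (by omega)]

lemma mk_eq_zero_of_mem {A : Type} [CommRing A] [Algebra (ZMod 2) A] {I : Ideal A} {a : A} (h : a ∈ I) :
    Ideal.Quotient.mkₐ (ZMod 2) I a = 0 := Ideal.Quotient.eq_zero_iff_mem.mpr h

lemma mem_of_mk_eq_zero {A : Type} [CommRing A] [Algebra (ZMod 2) A] {I : Ideal A} {a : A}
    (h : Ideal.Quotient.mkₐ (ZMod 2) I a = 0) : a ∈ I := Ideal.Quotient.eq_zero_iff_mem.mp h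

lemma hrel_mem_modIdeal (M : ℕ) (i : Fin (numVars n)) : hrel n (i.val + 1) ∈ modIdeal n M :=
  Submodule.mem_sup_left (Ideal.subset_span (Or.inr ⟨i, rfl⟩))

lemma mod_e_pow (M : ℕ) : (Ideal.Quotient.mkₐ (ZMod 2) (modIdeal n M)) (evar n 1) ^ M = 0 := by
  rw [← map_pow]
  exact mk_eq_zero_of_mem (Submodule.mem_sup_right (Ideal.mem_span_singleton_self _))

lemma mod_e_x (M : ℕ) : (Ideal.Quotient.mkₐ (ZMod 2) (modIdeal n M)) (evar n 1) *
    (Ideal.Quotient.mkₐ (ZMod 2) (modIdeal n M)) (xvar n) = 0 := by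
  rw [← map_mul]
  exact mk_eq_zero_of_mem (Submodule.mem_sup_left (Ideal.subset_span (Or.inl (Or.inr (Or.inl rfl)))))

lemma mod_x_sq (M : ℕ) : (Ideal.Quotient.mkₐ (ZMod 2) (modIdeal n M)) (xvar n) ^ 2 = 0 := by
  rw [← map_pow]
  exact mk_eq_zero_of_mem (Submodule.mem_sup_left (Ideal.subset_span (Or.inl (Or.inr (Or.inr rfl)))))

/-- `n` odd. -/
theorem modIdeal_one_eq_oddIdeal (hn : 2 ≤ n) (hodd : Odd n) : modIdeal n 1 = oddIdeal n := by
  have ha : twoExp n = 0 := twoExp_unique hodd (by simp)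
  have hne : n ≠ 2 ^ twoExp n := by rw [ha]; omega
  have hk : ∀ j, 3 ≤ j → j ≤ numVars n → (2 * j - 3) * 2 ^ klog n j ≠ n ∧ kprime n j = klog n j := fun j h3 hj => by
    have hne' : (2 * j - 3) * 2 ^ klog n j ≠ n := fun h => by
      have h1 := ((kprime_of_ge hn h3 hj).2 h).2.1
      have := (klog_bounds hn (by omega : 2 ≤ j) hj).2.2
      omega
    exact ⟨hne', ((kprime_of_ge hn h3 hj).1 hne').1⟩
  set f : FreeE n →ₐ[ZMod 2] _ := Ideal.Quotient.mkₐ (ZMod 2) (oddIdeal n) with hf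
  set g : FreeE n →ₐ[ZMod 2] _ := Ideal.Quotient.mkₐ (ZMod 2) (modIdeal n 1) with hg
  have hfe : f (evar n 1) = 0 := mk_eq_zero_of_mem (Ideal.subset_span (Or.inl (Or.inl rfl)))
  have hfe' : f (evar n 1) ^ 2 ^ twoExp n = 0 := by rw [hfe, zero_pow (by positivity)]
  have hfx : f (evar n 1) * f (xvar n) = 0 := by rw [hfe, zero_mul]
  have hge' : g (evar n 1) ^ 2 ^ twoExp n = 0 := by rw [ha]; exact mod_e_pow 1
  have hgx := mod_e_x (n := n) 1
  have hfj : ∀ i : Fin (numVars n), f (evar n (i.val + 1) ^ 2 ^ kprime n (i.val + 1)) = 0 := fun i =>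
    mk_eq_zero_of_mem (Ideal.subset_span (Or.inr ⟨i, rfl⟩))
  apply le_antisymm
  · refine sup_le (Ideal.span_le.mpr ?_) ((Ideal.span_singleton_le_iff_mem _).mpr ?_)
    · rintro q ((rfl | rfl | rfl) | ⟨i, rfl⟩) <;> refine mem_of_mk_eq_zero ?_ <;> rw [← hf]
      · rw [map_pow, hfe, zero_pow (by omega)]
      · rw [map_mul, hfe, zero_mul]
      · exact mk_eq_zero_of_mem (Ideal.subset_span (Or.inl (Or.inr rfl)))
      · rcases evar_zero_cases hn i with rfl | rfl | h3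
        · show f (hrel n 1) = 0
          rw [hrel_one, map_zero]
        · show f (hrel n 2) = 0
          rw [f_hrel_two hn f hfe' hfx hne, ← map_pow]
          exact hfj (i1 n hn)
        · show f (hrel n (i.val + 1)) = 0
          obtain ⟨h1, h2⟩ := hk _ h3 i.isLt
          rw [f_hrel_ge hn f hfe' hfx h3 i.isLt, if_neg h1, add_zero, ← h2, ← map_pow]
          exact hfj i
    · rw [pow_one]
      exact Ideal.subset_span (Or.inl (Or.inl rfl))
  · refine Ideal.span_le.mpr ?_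
    rintro q ((rfl | rfl) | ⟨i, rfl⟩) <;> refine mem_of_mk_eq_zero ?_ <;> rw [← hg]
    · exact (pow_one _).symm.trans (mod_e_pow 1)
    · rw [map_pow]; exact mod_x_sq 1
    · rw [map_pow]
      rcases evar_zero_cases hn i with rfl | rfl | h3
      · show g (evar n 1) ^ 2 ^ kprime n 1 = 0
        rw [kprime_one]; exact hge'
      · show g (evar n 2) ^ 2 ^ kprime n 2 = 0
        rw [← f_hrel_two hn g hge' hgx hne]
        exact mk_eq_zero_of_mem (hrel_mem_modIdeal 1 (i1 n hn))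
      · obtain ⟨h1, h2⟩ := hk _ h3 i.isLt
        have := f_hrel_ge hn g hge' hgx h3 i.isLt
        rw [if_neg h1, add_zero, ← h2] at this
        exact this.symm.trans (mk_eq_zero_of_mem (hrel_mem_modIdeal 1 i))

/-- The result of eliminating `x` modulo `e_1^M`. -/
theorem psi_mem_iff (hn : 2 ≤ n) (τ : P n →ₐ[ZMod 2] P n) (hτ1 : τ (eps n 1) = eps n 1)
    (hτ : ∀ j : ℕ, 2 ≤ j → j ≤ numVars n → τ (eps n j) = eps n j + eps n 1 ^ (2 * j - 3))
    (M : ℕ) (I : Ideal (FreeP n)) (y : FreeP n) (hy : xvar n - iota n y ∈ modIdeal n M)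
    (h1 : modIdeal n M ≤ I.comap (subX y)) (h2 : I ≤ (modIdeal n M).comap (iota n)) :
    (∀ q : FreeP n, (∃ w, τ w = w ∧ psi n q = eps n 1 ^ M * w) ↔ q ∈ I) ∧
    ∀ z, τ z = z → ∃ q : FreeP n, ∃ w, τ w = w ∧ z = psi n q + eps n 1 ^ M * w := by
  refine ⟨fun q => ?_, fun z hz => ?_⟩
  · rw [psi_eq, phi_mem_iff hn τ hτ1 hτ M]
    exact ⟨fun h => by have := h1 h; rwa [Ideal.mem_comap, subX_iota] at this, fun h => h2 h⟩
  · obtain ⟨q, rfl⟩ := (mem_range_phi_iff hn τ hτ1 hτ z).mpr hz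
    obtain ⟨w, hw, hqw⟩ := (phi_mem_iff hn τ hτ1 hτ M _).mpr (sub_iota_subX_mem _ y hy q)
    refine ⟨subX y q, w, hw, ?_⟩
    rw [psi_eq, ← hqw, map_sub]
    ring

section Even

variable (hn : 2 ≤ n) (ha : 1 ≤ twoExp n) (hne : n ≠ 2 ^ twoExp n)
include hn ha hne

lemma lIdx_spec : 3 ≤ lIdx n ∧ lIdx n ≤ numVars n ∧ (2 * lIdx n - 3) * 2 ^ klog n (lIdx n) = n := by
  obtain ⟨d, hd, hd'⟩ := twoExp_spec hn
  have h2 := Nat.odd_iff.mp hd
  have hd1 : d ≠ 1 := fun h => hne (by rw [h, mul_one] at hd'; exact hd')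
  have hl := lIdx_eq hd'
  have h2d : 2 * d ≤ n := by
    calc 2 * d ≤ 2 ^ twoExp n * d := Nat.mul_le_mul_right _ (by simpa using Nat.pow_le_pow_right (show 0 < 2 by norm_num) ha)
      _ = n := hd'.symm
  have h3 : 3 ≤ lIdx n := by omega
  have hj : lIdx n ≤ numVars n := by unfold numVars; omega
  refine ⟨h3, hj, ?_⟩
  by_contra h
  exact ((kprime_of_ge hn h3 hj).1 h).2 rfl

lemma x_sub_mem_even : xvar n - iota n (evarE n (lIdx n) ^ 2 ^ twoExp n) ∈ modIdeal n (2 ^ twoExp n) := by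
  obtain ⟨h3, hj, he⟩ := lIdx_spec hn ha hne
  have hh := f_hrel_ge hn (Ideal.Quotient.mkₐ (ZMod 2) (modIdeal n (2 ^ twoExp n))) (mod_e_pow _) (mod_e_x _) h3 hj
  rw [if_pos he, ((kprime_of_ge hn h3 hj).2 he).2.1] at hh
  refine mem_of_mk_eq_zero ?_
  rw [map_pow, iota_evarE, map_sub, map_pow, sub_eq_zero]
  symm
  refine eq_of_add_eq_zero (hh.symm.trans ?_)
  obtain ⟨i, hi⟩ : ∃ i : Fin (numVars n), i.val + 1 = lIdx n := ⟨⟨lIdx n - 1, by omega⟩, by simp only; omega⟩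
  rw [← hi]
  exact mk_eq_zero_of_mem (hrel_mem_modIdeal _ i)

lemma modIdeal_le_even : modIdeal n (2 ^ twoExp n) ≤
    (evenIdeal n).comap (subX (evarE n (lIdx n) ^ 2 ^ twoExp n)) := by
  obtain ⟨hl3, hlj, hle⟩ := lIdx_spec hn ha hne
  obtain ⟨-, hkl, hpl, -⟩ := (kprime_of_ge hn hl3 hlj).2 hle
  set σ := subX (evarE n (lIdx n) ^ 2 ^ twoExp n) with hσ
  set f : FreeE n →ₐ[ZMod 2] _ := (Ideal.Quotient.mkₐ (ZMod 2) (evenIdeal n)).comp σ with hf
  have hgen : ∀ i : Fin (numVars n), f (evar n (i.val + 1)) ^ 2 ^ kprime n (i.val + 1) = 0 := fun i => by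
    rw [hf, AlgHom.comp_apply, hσ, subX_evar, ← map_pow]
    exact mk_eq_zero_of_mem (Ideal.subset_span (Or.inr ⟨i, rfl⟩))
  have hfx : f (xvar n) = f (evar n (lIdx n)) ^ 2 ^ twoExp n := by
    rw [hf, AlgHom.comp_apply, AlgHom.comp_apply, hσ, subX_evar, subX_xvar, map_pow]
  have he : f (evar n 1) ^ 2 ^ twoExp n = 0 := by rw [← kprime_one (n := n)]; exact hgen (i0 n)
  have hx : f (evar n 1) * f (xvar n) = 0 := by
    rw [hfx, hf, AlgHom.comp_apply, AlgHom.comp_apply, hσ, subX_evar, subX_evar, ← map_pow, ← map_mul]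
    refine mk_eq_zero_of_mem (Ideal.subset_span (Or.inl ?_))
    rw [Set.mem_singleton_iff, hpl, Nat.add_sub_cancel]
  have key : ∀ q, f q = 0 → q ∈ (evenIdeal n).comap σ := fun q hq => mem_of_mk_eq_zero (a := σ q) hq
  refine sup_le (Ideal.span_le.mpr ?_) ((Ideal.span_singleton_le_iff_mem _).mpr (key _ (by rw [map_pow]; exact he)))
  rintro q ((rfl | rfl | rfl) | ⟨i, rfl⟩) <;> refine key _ ?_
  · rw [map_pow]; exact f_e_pow f he (pow_two_twoExp_le hn)
  · rw [map_mul]; exact hx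
  · obtain ⟨i, hi⟩ : ∃ i : Fin (numVars n), i.val + 1 = lIdx n := ⟨⟨lIdx n - 1, by omega⟩, by simp only; omega⟩
    have h := hgen i
    rw [hi, hpl] at h
    rw [map_pow, hfx, ← pow_mul, ← pow_succ]
    exact h
  · rcases evar_zero_cases hn i with rfl | rfl | h3
    · show f (hrel n 1) = 0
      rw [hrel_one, map_zero]
    · show f (hrel n 2) = 0
      rw [f_hrel_two hn f he hx hne]
      exact hgen (i1 n hn)
    · show f (hrel n (i.val + 1)) = 0
      rw [f_hrel_ge hn f he hx h3 i.isLt]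
      split_ifs with h
      · obtain ⟨hl, hk, -⟩ := (kprime_of_ge hn h3 i.isLt).2 h
        rw [hfx, ← hl, hk, add_self]
      · rw [add_zero, ← ((kprime_of_ge hn h3 i.isLt).1 h).1]
        exact hgen i

lemma even_le_modIdeal : evenIdeal n ≤ (modIdeal n (2 ^ twoExp n)).comap (iota n) := by
  obtain ⟨hl3, hlj, hle⟩ := lIdx_spec hn ha hne
  obtain ⟨-, hkl, hpl, -⟩ := (kprime_of_ge hn hl3 hlj).2 hle
  set f : FreeE n →ₐ[ZMod 2] _ := Ideal.Quotient.mkₐ (ZMod 2) (modIdeal n (2 ^ twoExp n)) with hf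
  have he : f (evar n 1) ^ 2 ^ twoExp n = 0 := mod_e_pow _
  have hx : f (evar n 1) * f (xvar n) = 0 := mod_e_x _
  have hxl : f (xvar n) = f (evar n (lIdx n)) ^ 2 ^ twoExp n := by
    have := mk_eq_zero_of_mem (x_sub_mem_even hn ha hne)
    rw [map_sub, sub_eq_zero, map_pow, iota_evarE] at this
    rw [this, map_pow]
  have hrel0 : ∀ i : Fin (numVars n), f (hrel n (i.val + 1)) = 0 := fun i => mk_eq_zero_of_mem (hrel_mem_modIdeal _ i)
  refine Ideal.span_le.mpr ?_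
  rintro q (rfl | ⟨i, rfl⟩) <;> rw [SetLike.mem_coe, Ideal.mem_comap] <;> refine mem_of_mk_eq_zero ?_
  · rw [map_mul, map_pow, iota_evarE, iota_evarE, map_mul, map_pow, hpl, Nat.add_sub_cancel]
    exact (congrArg _ hxl).symm.trans hx
  · rw [map_pow, iota_evarE, map_pow]
    rcases evar_zero_cases hn i with rfl | rfl | h3
    · show f (evar n 1) ^ 2 ^ kprime n 1 = 0
      rw [kprime_one]; exact he
    · show f (evar n 2) ^ 2 ^ kprime n 2 = 0
      rw [← f_hrel_two hn f he hx hne]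
      exact hrel0 (i1 n hn)
    · show f (evar n (i.val + 1)) ^ 2 ^ kprime n (i.val + 1) = 0
      by_cases h : (2 * (i.val + 1) - 3) * 2 ^ klog n (i.val + 1) = n
      · obtain ⟨hl, -, hp, -⟩ := (kprime_of_ge hn h3 i.isLt).2 h
        rw [hp, hl, pow_succ, pow_mul, ← hxl]
        exact mod_x_sq _
      · have := f_hrel_ge hn f he hx h3 i.isLt
        rw [hrel0, if_neg h, add_zero, ← ((kprime_of_ge hn h3 i.isLt).1 h).1] at this
        exact this.symm

end Even

section Pow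

variable (hn : 2 ≤ n) (he2 : n = 2 ^ twoExp n)
include hn he2

/-- The polynomial replacing `x`. -/
lemma x_sub_mem_pow : xvar n - iota n (∑ t ∈ Finset.range (kprime n 2),
    evarE n 1 ^ (2 ^ kprime n 2 - 2 ^ (t + 1)) * evarE n 2 ^ 2 ^ t) ∈ modIdeal n n := by
  obtain ⟨hk, hp⟩ := klog_two_of_eq hn he2
  have h := mk_eq_zero_of_mem (hrel_mem_modIdeal n (i1 n hn))
  refine mem_of_mk_eq_zero ?_
  simp only [map_sum, map_mul, map_pow, iota_evarE, map_sub]
  have h' : hrel n ((i1 n hn).val + 1) = evar n 1 ^ 0 * xvar n + sPoly n 2 := by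
    show hrel n 2 = _
    unfold hrel
    rw [if_pos rfl, show 2 ^ klog n 2 - n = 0 by rw [hk]; omega]
  rw [h'] at h
  simp only [pow_zero, one_mul, map_add, sPoly, map_sum, map_mul, map_pow, hk] at h
  rw [sub_eq_zero, eq_of_add_eq_zero h, hp]

lemma hne_pow {j : ℕ} (h3 : 3 ≤ j) (hj : j ≤ numVars n) :
    (2 * j - 3) * 2 ^ klog n j ≠ n ∧ kprime n j = klog n j := by
  have h : (2 * j - 3) * 2 ^ klog n j ≠ n := fun h => ((kprime_of_ge hn h3 hj).2 h).2.2.2 he2
  exact ⟨h, ((kprime_of_ge hn h3 hj).1 h).1⟩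

lemma modIdeal_le_pow : modIdeal n n ≤ (powIdeal n).comap (subX (∑ t ∈ Finset.range (kprime n 2),
    evarE n 1 ^ (2 ^ kprime n 2 - 2 ^ (t + 1)) * evarE n 2 ^ 2 ^ t)) := by
  obtain ⟨hk, hp⟩ := klog_two_of_eq hn he2
  set σ := subX (∑ t ∈ Finset.range (kprime n 2), evarE n 1 ^ (2 ^ kprime n 2 - 2 ^ (t + 1)) * evarE n 2 ^ 2 ^ t) with hσ
  set f : FreeE n →ₐ[ZMod 2] _ := (Ideal.Quotient.mkₐ (ZMod 2) (powIdeal n)).comp σ with hf
  have hgen : ∀ i : Fin (numVars n), f (evar n (i.val + 1)) ^ 2 ^ kprime n (i.val + 1) = 0 := fun i => by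
    rw [hf, AlgHom.comp_apply, hσ, subX_evar, ← map_pow]
    exact mk_eq_zero_of_mem (Ideal.subset_span (Or.inr ⟨i, rfl⟩))
  have hfx : f (xvar n) = ∑ t ∈ Finset.range (twoExp n), f (evar n 1) ^ (2 ^ twoExp n - 2 ^ (t + 1)) * f (evar n 2) ^ 2 ^ t := by
    simp only [hf, AlgHom.comp_apply, hσ, subX_evar, subX_xvar, map_sum, map_mul, map_pow, hp]
  have he : f (evar n 1) ^ 2 ^ twoExp n = 0 := by rw [← kprime_one (n := n)]; exact hgen (i0 n)
  have hx : f (evar n 1) * f (xvar n) = 0 := by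
    simp only [hf, AlgHom.comp_apply, hσ, subX_evar, subX_xvar, ← map_mul]
    exact mk_eq_zero_of_mem (Ideal.subset_span (Or.inl rfl))
  have key : ∀ q, f q = 0 → q ∈ (powIdeal n).comap σ := fun q hq => mem_of_mk_eq_zero (a := σ q) hq
  have hee : f (evar n 1) ^ n = 0 := f_e_pow f he he2.ge
  refine sup_le (Ideal.span_le.mpr ?_) ((Ideal.span_singleton_le_iff_mem _).mpr (key _ (by rw [map_pow]; exact hee)))
  rintro q ((rfl | rfl | rfl) | ⟨i, rfl⟩) <;> refine key _ ?_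
  · rw [map_pow]; exact hee
  · rw [map_mul]; exact hx
  · have h2 := hgen (i1 n hn)
    have hb : 1 ≤ twoExp n := by rcases Nat.eq_zero_or_pos (twoExp n) with h | h <;> [(rw [h] at he2; omega); exact h]
    rw [show (i1 n hn).val + 1 = 2 from rfl, hp] at h2
    rw [map_pow, hfx, sum_sq_eq _ _ _ hb he]
    exact h2
  · rcases evar_zero_cases hn i with rfl | rfl | h3
    · show f (hrel n 1) = 0
      rw [hrel_one, map_zero]
    · show f (hrel n 2) = 0
      unfold hrel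
      rw [if_pos rfl, show 2 ^ klog n 2 - n = 0 by rw [hk]; omega, pow_zero, one_mul, map_add, hfx]
      simp only [sPoly, map_sum, map_mul, map_pow, hk]
      exact add_self _
    · show f (hrel n (i.val + 1)) = 0
      obtain ⟨h1, h2⟩ := hne_pow hn he2 h3 i.isLt
      rw [f_hrel_ge hn f he hx h3 i.isLt, if_neg h1, add_zero, ← h2]
      exact hgen i

lemma pow_le_modIdeal : powIdeal n ≤ (modIdeal n n).comap (iota n) := by
  obtain ⟨hk, hp⟩ := klog_two_of_eq hn he2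
  set f : FreeE n →ₐ[ZMod 2] _ := Ideal.Quotient.mkₐ (ZMod 2) (modIdeal n n) with hf
  have he : f (evar n 1) ^ 2 ^ twoExp n = 0 := pow_eq_zero_of_le he2.le (mod_e_pow n)
  have hx : f (evar n 1) * f (xvar n) = 0 := mod_e_x _
  have hb : 1 ≤ twoExp n := by rcases Nat.eq_zero_or_pos (twoExp n) with h | h <;> [(rw [h] at he2; omega); exact h]
  have hxS : f (xvar n) = ∑ t ∈ Finset.range (twoExp n), f (evar n 1) ^ (2 ^ twoExp n - 2 ^ (t + 1)) * f (evar n 2) ^ 2 ^ t := by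
    have := mk_eq_zero_of_mem (x_sub_mem_pow hn he2)
    rw [map_sub, sub_eq_zero] at this
    simp only [map_sum, map_mul, map_pow, iota_evarE, hp] at this
    exact this
  have hrel0 : ∀ i : Fin (numVars n), f (hrel n (i.val + 1)) = 0 := fun i => mk_eq_zero_of_mem (hrel_mem_modIdeal _ i)
  refine Ideal.span_le.mpr ?_
  rintro q (rfl | ⟨i, rfl⟩) <;> rw [SetLike.mem_coe, Ideal.mem_comap] <;> refine mem_of_mk_eq_zero ?_
  · simp only [map_sum, map_mul, map_pow, iota_evarE, hp]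
    exact (congrArg _ hxS).symm.trans hx
  · rw [map_pow, iota_evarE, map_pow]
    rcases evar_zero_cases hn i with rfl | rfl | h3
    · show f (evar n 1) ^ 2 ^ kprime n 1 = 0
      rw [kprime_one]; exact he
    · show f (evar n 2) ^ 2 ^ kprime n 2 = 0
      rw [hp, ← sum_sq_eq _ _ _ hb he, ← hxS]
      exact mod_x_sq _
    · show f (evar n (i.val + 1)) ^ 2 ^ kprime n (i.val + 1) = 0
      obtain ⟨h1, h2⟩ := hne_pow hn he2 h3 i.isLt
      have := f_hrel_ge hn f he hx h3 i.isLt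
      rw [hrel0, if_neg h1, add_zero, ← h2] at this
      exact this.symm

end Pow

end Groth.Agent.H68.QsP
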